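import Mathlib
import Cfsg.Agent.H96.Fi22U6

/-!
Involutory semilinear isometries of the six-dimensional Hermitian space over the field of order 4
have a fixed orthonormal or a fixed symplectic frame.
-/

set_option autoImplicit false
set_option maxRecDepth 100000

namespace H46
namespace Fi22Aut

open H96.Fi22U6 (K W hK hh hh_eq)
open Cfsg Matrix

local notation "⟪" x ", " y "⟫" => hermForm 6 K 2 x y

theorem sq_fix : ∀ a : K, a * a = a → a = 0 ∨ a = 1 := by decide +kernel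

theorem trace_one : ∃ a : K, a + a * a = 1 := by decide +kernel

theorem two_zero : ∀ a : K, a + a = 0 := H35.G24.K4.add_self

theorem w_add_self (x : W) : x + x = 0 := funext fun i => two_zero _

theorem neg_eq' (x : W) : -x = x := neg_eq_iff_add_eq_zero.mpr (w_add_self x)

theorem sub_eq' (x y : W) : x - y = x + y := by rw [sub_eq_add_neg, neg_eq']

/-- a semilinear involutory isometry -/
structure Semi (T : W → W) : Prop where
  add : ∀ x y, T (x + y) = T x + T y
  smul : ∀ (l : K) x, T (l • x) = (l * l) • T x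
  iso : ∀ x y, ⟪T x, T y⟫ = ⟪x, y⟫ * ⟪x, y⟫
  inv : ∀ x, T (T x) = x

variable {T : W → W}

theorem Semi.map_sum (h : Semi T) {ι : Type} (s : Finset ι) (f : ι → W) :
    T (∑ i ∈ s, f i) = ∑ i ∈ s, T (f i) := by
  classical
  induction s using Finset.induction with
  | empty =>
    have h0 := h.smul 0 0
    simpa using h0
  | insert i s hi ih => rw [Finset.sum_insert hi, Finset.sum_insert hi, h.add, ih]

theorem Semi.fixed_prod (h : Semi T) {x y : W} (hx : T x = x) (hy : T y = y) :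
    ⟪x, y⟫ = 0 ∨ ⟪x, y⟫ = 1 := by
  refine sq_fix _ ?_
  conv_rhs => rw [← hx, ← hy, h.iso]

theorem Semi.fixed_symm (h : Semi T) {x y : W} (hx : T x = x) (hy : T y = y) :
    ⟪y, x⟫ = ⟪x, y⟫ := by
  rw [H50.h_symm hK x y]
  rcases h.fixed_prod hx hy with e | e <;> rw [e] <;> norm_num

/-- a fixed nonzero vector orthogonal to few fixed vectors -/
theorem Semi.exists_perp (h : Semi T) {k : ℕ} (hk : k < 6) (f : Fin k → W) (hf : ∀ i, T (f i) = f i) :
    ∃ v, v ≠ 0 ∧ T v = v ∧ ∀ i, ⟪v, f i⟫ = 0 := by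
  obtain ⟨x, hx0, hx⟩ : ∃ x : W, x ≠ 0 ∧ ∀ i, ⟪x, f i⟫ = 0 := by
    obtain ⟨x, y, hne, hxy⟩ := Fintype.exists_ne_map_eq_of_card_lt
      (fun (x : W) (i : Fin k) => ⟪x, f i⟫) (by
        rw [Fintype.card_fun, Fintype.card_fun, Fintype.card_fin, Fintype.card_fin, hK]
        exact Nat.pow_lt_pow_right (by norm_num) hk)
    refine ⟨x - y, sub_ne_zero.mpr hne, fun i => ?_⟩
    rw [H50.h_sub_left, congrFun hxy i, sub_self]
  by_cases he : x + T x = 0
  · refine ⟨x, hx0, ?_, hx⟩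
    rw [← neg_eq' x, ← eq_neg_of_add_eq_zero_right he, h.inv, eq_neg_of_add_eq_zero_right he, neg_eq']
  · refine ⟨x + T x, he, by rw [h.add, h.inv, add_comm], fun i => ?_⟩
    rw [H50.h_add_left, hx, ← hf i, h.iso, hx, mul_zero, add_zero]

/-- a fixed vector not orthogonal to a given fixed one -/
theorem Semi.exists_partner (h : Semi T) {v y : W} (hv : T v = v) (hy : ⟪v, y⟫ ≠ 0) :
    ∃ l : K, T (l • y + T (l • y)) = l • y + T (l • y) ∧ ⟪v, l • y + T (l • y)⟫ = 1 := by
  obtain ⟨a, ha⟩ := trace_one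
  have hs : ∀ c : K, c ≠ 0 → ∃ l : K, l * l * c = a := by
    have : ∀ a c : K, c ≠ 0 → ∃ l : K, l * l * c = a := by decide +kernel
    exact this a
  obtain ⟨l, hl⟩ := hs _ hy
  refine ⟨l, by rw [h.add, h.inv, add_comm], ?_⟩
  rw [H50.h_add_right hK]
  conv_lhs => rw [← congrArg (fun z => ⟪z, T (l • y)⟫) hv]
  rw [h.iso, H50.h_smul_right hK, pow_two, hl]
  exact ha

theorem exists_ne_prod {v : W} (hv : v ≠ 0) : ∃ y, ⟪v, y⟫ ≠ 0 := by
  by_contra hc
  push Not at hc
  exact hv (H50.eq_zero_of_h_left hK hc)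

/-- the symplectic Gram table -/
def jPat (i j : Fin 6) : K := if i.val / 2 = j.val / 2 ∧ i ≠ j then 1 else 0

/-- orthonormal fixed lists -/
def Orth (T : W → W) (k : ℕ) : Prop :=
  ∃ f : Fin k → W, (∀ i, T (f i) = f i) ∧ ∀ i j, ⟪f i, f j⟫ = if i = j then 1 else 0

theorem Orth.le {k : ℕ} (h : Orth T k) : k ≤ 6 := by
  obtain ⟨f, -, hf⟩ := h
  have hinj : Function.Injective fun (a : Fin k → K) => ∑ i, a i • f i := by
    intro a b hab
    funext j
    have := congrArg (fun z => ⟪z, f j⟫) hab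
    simpa [H50.h_sum_left, H50.h_smul_left, hf] using this
  have h1 := Fintype.card_le_of_injective _ hinj
  rw [Fintype.card_fun, Fintype.card_fun, Fintype.card_fin, Fintype.card_fin, hK] at h1
  exact (Nat.pow_le_pow_iff_right (by norm_num)).mp h1

theorem Orth.snoc (h : Semi T) {k : ℕ} {f : Fin k → W} (hf : ∀ i, T (f i) = f i)
    (hg : ∀ i j, ⟪f i, f j⟫ = if i = j then 1 else 0) {v : W} (hv : T v = v) (hvv : ⟪v, v⟫ = 1)
    (hp : ∀ i, ⟪v, f i⟫ = 0) : Orth T (k + 1) := by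
  refine ⟨Fin.cons v f, fun i => ?_, fun i j => ?_⟩
  · refine Fin.cases ?_ ?_ i
    · simpa using hv
    · intro i; simpa using hf i
  · refine Fin.cases ?_ ?_ i <;> refine Fin.cases ?_ ?_ j <;> intros <;>
      simp [hvv, hp, hg, h.fixed_symm hv (hf _), Fin.succ_ne_zero, (Fin.succ_ne_zero _).symm]

/-- projection away from an orthonormal list -/
theorem perp_proj {k : ℕ} {f : Fin k → W} (hg : ∀ i j, ⟪f i, f j⟫ = if i = j then 1 else 0)
    (y : W) (i : Fin k) : ⟪y + ∑ j, ⟪y, f j⟫ • f j, f i⟫ = 0 := by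
  rw [H50.h_add_left, H50.h_sum_left]
  simp [H50.h_smul_left, hg, two_zero]

/-- either an orthonormal list of six, or none at all -/
theorem Semi.orth_dichotomy (h : Semi T) : Orth T 6 ∨ ∀ v, T v = v → ⟪v, v⟫ = 0 := by
  classical
  by_contra hc
  push Not at hc
  obtain ⟨h6, v₀, hv₀, hne⟩ := hc
  have h1 : Orth T 1 := ⟨fun _ => v₀, fun _ => hv₀, fun i j => by
    rw [if_pos (Subsingleton.elim i j)]; exact (h.fixed_prod hv₀ hv₀).resolve_left hne⟩
  obtain ⟨k, hk, hmax⟩ : ∃ k, Orth T k ∧ ∀ m, Orth T m → m ≤ k :=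
    ⟨_, Nat.findGreatest_spec (P := Orth T) (m := 1) (n := 6) (by norm_num) h1,
      fun m hm => Nat.le_findGreatest hm.le hm⟩
  have hk1 := hmax 1 h1
  have hk5 : k < 6 := lt_of_le_of_ne hk.le fun e => h6 (e ▸ hk)
  obtain ⟨f, hf, hg⟩ := hk
  obtain ⟨v, hv0, hv, hp⟩ := h.exists_perp hk5 f hf
  have hiso : ∀ u, T u = u → (∀ i, ⟪u, f i⟫ = 0) → ⟪u, u⟫ = 0 := fun u hu hp' =>
    (h.fixed_prod hu hu).resolve_right fun e =>
      absurd (hmax _ (Orth.snoc h hf hg hu e hp')) (by omega)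
  obtain ⟨y, hy⟩ := exists_ne_prod hv0
  set y' := y + ∑ j, ⟪y, f j⟫ • f j with hy'
  have hvy : ⟪v, y'⟫ ≠ 0 := by
    rw [hy', H50.h_add_right hK, H50.h_sum_right hK]
    simpa [H50.h_smul_right hK, hp] using hy
  obtain ⟨l, hw, hvw⟩ := h.exists_partner hv hvy
  set w := l • y' + T (l • y') with hwdef
  have hpw : ∀ i, ⟪w, f i⟫ = 0 := fun i => by
    have h0 : ⟪l • y', f i⟫ = 0 := by rw [H50.h_smul_left, perp_proj hg, mul_zero]
    rw [hwdef, H50.h_add_left, h0]
    nth_rewrite 1 [← hf i]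
    rw [h.iso, h0, mul_zero, add_zero]
  obtain ⟨m, rfl⟩ : ∃ m, k = m + 1 := ⟨k - 1, by omega⟩
  set e := f 0 with he
  have hev : ⟪v, e⟫ = 0 := hp 0
  have hew : ⟪w, e⟫ = 0 := hpw 0
  have hev' : ⟪e, v⟫ = 0 := by rw [h.fixed_symm hv (hf 0)]; exact hev
  have hew' : ⟪e, w⟫ = 0 := by rw [h.fixed_symm hw (hf 0)]; exact hew
  have hwv : ⟪w, v⟫ = 1 := by rw [h.fixed_symm hv hw]; exact hvw
  have hvv := hiso v hv hp
  have hww := hiso w hw hpw
  have hee : ⟪e, e⟫ = 1 := by rw [hg, if_pos rfl]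
  have hzero : ∀ i : Fin m, ⟪e, f i.succ⟫ = 0 ∧ ⟪f i.succ, e⟫ = 0 := fun i =>
    ⟨by rw [hg, if_neg (Fin.succ_ne_zero i).symm], by rw [hg, if_neg (Fin.succ_ne_zero i)]⟩
  have hv' : ∀ i, ⟪f i, v⟫ = 0 := fun i => by rw [h.fixed_symm hv (hf i)]; exact hp i
  have hw' : ∀ i, ⟪f i, w⟫ = 0 := fun i => by rw [h.fixed_symm hw (hf i)]; exact hpw i
  have hg' : ∀ i j : Fin m, ⟪f i.succ, f j.succ⟫ = if i = j then 1 else 0 := fun i j => by
    rw [hg]; simp
  have h11 : (1 : K) + 1 = 0 := two_zero 1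
  have := hmax (3 + m) ⟨Fin.append ![e + v, e + w, e + v + w] (Fin.tail f), fun i => ?_, fun i j => ?_⟩
  · omega
  · refine Fin.addCases (fun i => ?_) (fun i => ?_) i
    · rw [Fin.append_left]
      fin_cases i <;> simp [h.add, he, hf 0, hv, hw]
    · rw [Fin.append_right]
      exact hf _
  · refine Fin.addCases (fun i => ?_) (fun i => ?_) i <;>
      refine Fin.addCases (fun j => ?_) (fun j => ?_) j
    · rw [Fin.append_left, Fin.append_left]
      fin_cases i <;> fin_cases j <;>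
        simp [H50.h_add_left, H50.h_add_right hK, hvv, hww, hvw, hwv, hee, hev, hew, hev', hew', h11, Fin.ext_iff]
    · rw [Fin.append_left, Fin.append_right, if_neg (by simp [Fin.ext_iff]; omega), Fin.tail]
      fin_cases i <;> simp [H50.h_add_left, hzero, hp, hpw]
    · rw [Fin.append_right, Fin.append_left, if_neg (by simp [Fin.ext_iff]; omega), Fin.tail]
      fin_cases j <;> simp [H50.h_add_right hK, hzero, hv', hw']
    · rw [Fin.append_right, Fin.append_right, Fin.tail, Fin.tail, hg']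
      simp [Fin.ext_iff]

/-- a symplectic fixed frame when all fixed vectors are isotropic -/
theorem Semi.symp_frame (h : Semi T) (hall : ∀ v, T v = v → ⟪v, v⟫ = 0) :
    ∃ f : Fin 6 → W, (∀ i, T (f i) = f i) ∧ ∀ i j, ⟪f i, f j⟫ = jPat i j := by
  classical
  have step : ∀ m ≤ 3, ∃ v w : Fin m → W, (∀ i, T (v i) = v i) ∧ (∀ i, T (w i) = w i) ∧
      (∀ i j, ⟪v i, v j⟫ = 0) ∧ (∀ i j, ⟪w i, w j⟫ = 0) ∧
      ∀ i j, ⟪v i, w j⟫ = if i = j then 1 else 0 := by
    intro m
    induction m with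
    | zero => exact fun _ => ⟨Fin.elim0, Fin.elim0, fun i => i.elim0, fun i => i.elim0,
        fun i => i.elim0, fun i => i.elim0, fun i => i.elim0⟩
    | succ m ih =>
      intro hm
      obtain ⟨v, w, hv, hw, hvv, hww, hvw⟩ := ih (by omega)
      have hwv : ∀ i j, ⟪w i, v j⟫ = if j = i then 1 else 0 := fun i j => by
        rw [h.fixed_symm (hv j) (hw i)]; exact hvw j i
      obtain ⟨a, ha0, ha, hap⟩ := h.exists_perp (k := m + m) (by omega) (Fin.append v w)
        (fun i => Fin.addCases (fun i => by rw [Fin.append_left]; exact hv i) (fun i => by rw [Fin.append_right]; exact hw i) i)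
      have hav : ∀ i, ⟪a, v i⟫ = 0 := fun i => by simpa using hap (Fin.castAdd m i)
      have haw : ∀ i, ⟪a, w i⟫ = 0 := fun i => by have := hap (Fin.natAdd m i); rwa [Fin.append_right] at this
      obtain ⟨y, hy⟩ := exists_ne_prod ha0
      set y' := y + (∑ j, ⟪y, w j⟫ • v j + ∑ j, ⟪y, v j⟫ • w j) with hy'
      have hyv : ∀ i, ⟪y', v i⟫ = 0 := fun i => by
        simp [hy', H50.h_add_left, H50.h_sum_left, H50.h_smul_left, hvv, hwv, two_zero]
      have hyw : ∀ i, ⟪y', w i⟫ = 0 := fun i => by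
        simp [hy', H50.h_add_left, H50.h_sum_left, H50.h_smul_left, hvw, hww, two_zero]
      have hay : ⟪a, y'⟫ ≠ 0 := by
        simpa [hy', H50.h_add_right hK, H50.h_sum_right hK, H50.h_smul_right hK, hav, haw] using hy
      obtain ⟨l, hb, hab⟩ := h.exists_partner ha hay
      set b := l • y' + T (l • y') with hbdef
      have hbp : ∀ u, T u = u → ⟪y', u⟫ = 0 → ⟪b, u⟫ = 0 := fun u hu h0 => by
        have h1 : ⟪l • y', u⟫ = 0 := by rw [H50.h_smul_left, h0, mul_zero]
        rw [hbdef, H50.h_add_left, h1]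
        nth_rewrite 1 [← hu]
        rw [h.iso, h1, mul_zero, add_zero]
      refine ⟨Fin.cons a v, Fin.cons b w, fun i => ?_, fun i => ?_, fun i j => ?_, fun i j => ?_,
        fun i j => ?_⟩
      · refine Fin.cases ?_ (fun i => ?_) i <;> simp [ha, hv]
      · refine Fin.cases ?_ (fun i => ?_) i <;> simp [hb, hw]
      · refine Fin.cases ?_ (fun i => ?_) i <;> refine Fin.cases ?_ (fun j => ?_) j <;>
          simp [hall a ha, hvv, hav, h.fixed_symm ha (hv _)]
      · refine Fin.cases ?_ (fun i => ?_) i <;> refine Fin.cases ?_ (fun j => ?_) j <;>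
          simp [hall b hb, hww, hbp _ (hw _) (hyw _), h.fixed_symm hb (hw _)]
      · refine Fin.cases ?_ (fun i => ?_) i <;> refine Fin.cases ?_ (fun j => ?_) j <;>
          simp [hab, hvw, haw, h.fixed_symm hb (hv _), hbp _ (hv _) (hyv _), Fin.succ_ne_zero,
            (Fin.succ_ne_zero _).symm]
  obtain ⟨v, w, hv, hw, hvv, hww, hvw⟩ := step 3 le_rfl
  have hwv : ∀ i j, ⟪w i, v j⟫ = if j = i then 1 else 0 := fun i j => by
    rw [h.fixed_symm (hv j) (hw i)]; exact hvw j i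
  refine ⟨![v 0, w 0, v 1, w 1, v 2, w 2], fun i => ?_, fun i j => ?_⟩
  · fin_cases i <;> simp [hv, hw]
  · fin_cases i <;> fin_cases j <;> simp [jPat, hvv, hww, hvw, hwv]

end Fi22Aut
end H46
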