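import Mathlib
import Cfsg.Agent.H96.Fi22Out
import Cfsg.Agent.H46.Fi22Aut.BetaData

/-!
Automorphisms of `Fi22` as permutations of the 3510 nodes.
-/

set_option autoImplicit false
set_option maxRecDepth 100000

namespace H46
namespace Fi22Aut

open H93 H93.Coset H96 H96.Fi22Out
open Fi22O7 (G gen D A act sq1 mem_A_of_fix commute_zero finite_G)

/-- images of the nodes under the outer automorphism -/
def bn (c : ℕ) : ℕ := Nat.land (Nat.shiftRight packB (16 * c)) 65535

/-- the transitions, the letter 9 standing for the outer automorphism -/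
def T' (g c : ℕ) : ℕ := bif Nat.blt g 9 then D.T g c else bn c

/-- the check of the table of the outer automorphism -/
noncomputable def bnOK : Bool := Nat.beq (bn 0) 0 && allRange 0 3510 fun c =>
  Nat.blt (bn c) 3510 && (List.range 9).all fun g =>
    walk D.T (img g) (bn c) fun e => Nat.beq e (bn (D.T g c))

theorem bn_ok : bnOK = true := by decide +kernel

theorem bn_zero : bn 0 = 0 := by
  have h := bn_ok
  rw [bnOK, Bool.and_eq_true] at h
  exact Nat.eq_of_beq_eq_true h.1

theorem bn_spec {c : ℕ} (hc : c < 3510) :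
    bn c < 3510 ∧ ∀ g < 9, pathEnd D.T (img g) (bn c) = bn (D.T g c) := by
  have h := bn_ok
  rw [bnOK, Bool.and_eq_true] at h
  have h1 := allRange_spec h.2 c (Nat.zero_le _) (by omega)
  rw [Bool.and_eq_true, List.all_eq_true] at h1
  refine ⟨Data.blt_iff.mp h1.1, fun g hg => ?_⟩
  have := h1.2 g (List.mem_range.mpr hg)
  rw [walk_eq] at this
  exact Nat.eq_of_beq_eq_true this

theorem img_lt : ∀ g < 9, ∀ x ∈ img g, x < 9 := by decide +kernel

/-- the node map of the outer automorphism -/
def bnF (c : Fin D.n) : Fin D.n := ⟨bn c.val, (bn_spec (lt_of_lt_of_eq c.2 rfl)).1⟩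

theorem act_beta_gen {g : ℕ} (hg : g < 9) (c : Fin D.n) :
    act (gen2 g) (bnF c) = bnF (act (gen g) c) := by
  refine Fin.ext ?_
  rw [gen2, H93.Fi22ATable.fit.model.act_ev _ (fun x hx => img_lt g hg x hx) (bnF c)]
  show pathEnd D.T (img g) (bn c.val) = bn _
  rw [(bn_spec (lt_of_lt_of_eq c.2 rfl)).2 g hg, Fi22U6.act_gen hg]

theorem act_beta (u : G) : ∀ c : Fin D.n, act (beta u) (bnF c) = bnF (act u c) := by
  have hu : u ∈ Subgroup.closure (gen '' {g | g < 9}) := by
    rw [show gen '' {g | g < 9} = gen '' {g | g < D.ng} from rfl,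
      H93.Fi22ATable.fit.model.generates]
    trivial
  induction hu using Subgroup.closure_induction with
  | mem x hx =>
    obtain ⟨g, hg, rfl⟩ := hx
    intro c
    rw [show beta (gen g) = betaHom (gen g) from rfl, betaHom_gen hg]
    exact act_beta_gen hg c
  | one => intro c; simp
  | mul x y _ _ hx hy => intro c; rw [map_mul, map_mul, Equiv.Perm.mul_apply, hy, hx, map_mul,
      Equiv.Perm.mul_apply]
  | inv x _ hx =>
    intro c
    rw [map_inv, map_inv, map_inv, Equiv.Perm.inv_eq_iff_eq, hx, Equiv.Perm.coe_inv,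
      Equiv.apply_symm_apply]

/-- the automorphism of a letter -/
noncomputable def gA (g : ℕ) : MulAut G := if g < 9 then MulAut.conj (gen g) else beta

/-- the automorphism of a word -/
noncomputable abbrev Wd (w : List ℕ) : MulAut G := ev gA w

/-- an element carrying the first node to a given one -/
noncomputable def rep (c : Fin D.n) : G := (node_surj c).choose

theorem act_rep (c : Fin D.n) : act (rep c) z0 = c := (node_surj c).choose_spec

/-- the transposition of a node -/
noncomputable def Tn (c : Fin D.n) : G := T (rep c)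

theorem Tn_eq {c : Fin D.n} {u : G} (h : act u z0 = c) : T u = Tn c :=
  T_eq_iff.mpr (h.trans (act_rep c).symm)

theorem Tn_inj {c d : Fin D.n} (h : Tn c = Tn d) : c = d := by
  have := T_eq_iff.mp h
  rwa [act_rep, act_rep] at this

theorem beta_gen_zero : beta (gen 0) = gen 0 := by
  rw [show beta (gen 0) = betaHom (gen 0) from rfl, betaHom_gen (by norm_num)]
  exact one_mul _

theorem T'_lt {g c : ℕ} (hg : g < 10) (hc : c < 3510) : T' g c < 3510 := by
  rcases Nat.lt_or_ge g 9 with h | h
  · rw [T', show Nat.blt g 9 = true from Data.blt_iff.mpr h, cond_true]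
    exact pathEnd_lt H93.Fi22ATable.fit.model.tables [g] (fun x hx => by
      rw [List.mem_singleton] at hx; subst hx; exact h) hc
  · rw [T', show Nat.blt g 9 = false from by
      rw [Bool.eq_false_iff, ne_eq, Data.blt_iff]; omega, cond_false]
    exact (bn_spec hc).1

theorem gA_Tn {g : ℕ} (hg : g < 10) (c : Fin D.n) :
    gA g (Tn c) = Tn ⟨T' g c.val, T'_lt hg (lt_of_lt_of_eq c.2 rfl)⟩ := by
  rcases Nat.lt_or_ge g 9 with h | h
  · rw [gA, if_pos h, MulAut.conj_apply, Tn, ← T_mul]
    refine Tn_eq (Fin.ext ?_)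
    rw [map_mul, Equiv.Perm.mul_apply, act_rep, Fi22U6.act_gen h]
    show D.T g c.val = T' g c.val
    rw [T', show Nat.blt g 9 = true from Data.blt_iff.mpr h, cond_true]
  · rw [gA, if_neg (by omega), Tn,
      show beta (T (rep c)) = T (beta (rep c)) by rw [T, T, map_mul, map_mul, map_inv, beta_gen_zero]]
    refine Tn_eq ?_
    have h0 : bnF z0 = z0 := Fin.ext bn_zero
    rw [← h0, act_beta, act_rep]
    refine Fin.ext ?_
    show bn c.val = T' g c.val
    rw [T', show Nat.blt g 9 = false from by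
      rw [Bool.eq_false_iff, ne_eq, Data.blt_iff]; omega, cond_false]

theorem pathEnd_lt' : ∀ (w : List ℕ) (c : ℕ), (∀ g ∈ w, g < 10) → c < 3510 →
    pathEnd T' w c < 3510
  | [], c, _, hc => hc
  | g :: w, c, hw, hc =>
    pathEnd_lt' w _ (fun x hx => hw x (by simp [hx])) (T'_lt (hw g (by simp)) hc)

theorem Wd_Tn : ∀ (w : List ℕ) (hw : ∀ g ∈ w, g < 10) (c : Fin D.n),
    Wd w (Tn c) = Tn ⟨pathEnd T' w c.val, pathEnd_lt' w _ hw (lt_of_lt_of_eq c.2 rfl)⟩
  | [], _, c => rfl
  | g :: w, hw, c => by
    show (Wd w * gA g) (Tn c) = _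
    rw [MulAut.mul_apply, gA_Tn (hw g (by simp)) c,
      Wd_Tn w (fun x hx => hw x (by simp [hx])) _]
    rfl

/-- the node of a generator -/
def lfn (g : ℕ) (h : lf g < 3510) : Fin D.n := ⟨lf g, h⟩

theorem lf_lt : ∀ g < 9, lf g < 3510 := by decide +kernel

theorem gen_Tn {g : ℕ} (hg : g < 9) : gen g = Tn (lfn g (lf_lt g hg)) :=
  (gen_eq hg).1.trans (Tn_eq (Fin.ext (gen_eq hg).2))

/-- automorphisms agreeing on the nine nodes are equal -/
theorem aut_ext_nodes {α γ : MulAut G}
    (h : ∀ g, (hg : g < 9) → α (Tn (lfn g (lf_lt g hg))) = γ (Tn (lfn g (lf_lt g hg)))) : α = γ :=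
  aut_ext fun g hg => by rw [gen_Tn hg]; exact h g hg

/-- the check that two words give the same automorphism -/
def sameW (w w' : List ℕ) : Bool :=
  w.all (fun g => Nat.blt g 10) && w'.all (fun g => Nat.blt g 10) &&
    (List.range 9).all fun g => Nat.beq (pathEnd T' w (lf g)) (pathEnd T' w' (lf g))

theorem Wd_eq {w w' : List ℕ} (h : sameW w w' = true) : Wd w = Wd w' := by
  simp only [sameW, Bool.and_eq_true, List.all_eq_true, Data.blt_iff, Nat.beq_eq] at h
  obtain ⟨⟨h1, h2⟩, h3⟩ := h
  refine aut_ext_nodes fun g hg => ?_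
  rw [Wd_Tn w h1, Wd_Tn w' h2]
  exact congrArg Tn (Fin.ext (h3 g (List.mem_range.mpr hg)))

theorem Wd_append (u v : List ℕ) : Wd (u ++ v) = Wd v * Wd u := ev_append gA u v

theorem Wd_eq_conj : ∀ (w : List ℕ), (∀ g ∈ w, g < 9) → Wd w = MulAut.conj (ev gen w)
  | [], _ => (map_one _).symm
  | g :: w, hw => by
    show Wd w * gA g = MulAut.conj (ev gen w * gen g)
    rw [Wd_eq_conj w (fun x hx => hw x (by simp [hx])), gA, if_pos (hw g (by simp)), map_mul]

theorem conj_inj {x y : G} (h : MulAut.conj x = MulAut.conj y) : x = y := by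
  haveI := finite_G
  haveI : IsSimpleGroup G := H93.Fi22Order.isFi22.1
  have hc : y⁻¹ * x ∈ Subgroup.center G := Subgroup.mem_center_iff.mpr fun v => by
    have h1 : MulAut.conj (y⁻¹ * x) v = v := by
      rw [map_mul, h, ← map_mul, inv_mul_cancel, map_one, MulAut.one_apply]
    rw [MulAut.conj_apply, mul_inv_eq_iff_eq_mul] at h1
    exact h1.symm
  have hbot : Subgroup.center G = ⊥ := by
    refine (IsSimpleGroup.eq_bot_or_eq_top_of_normal (Subgroup.center G) inferInstance).resolve_right fun ht => ?_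
    have h01 : Commute (gen 0) (gen 1) := (Subgroup.mem_center_iff.mp (ht ▸ Subgroup.mem_top (gen 1))) _
    have : gen 1 ∈ A := by
      rw [← Fi22Class.centralizer_eq, Subgroup.mem_centralizer_singleton_iff]
      exact h01.eq.symm
    have h2 := congrArg Fin.val (act_z0_eq_iff.mpr this)
    rw [Fi22U6.act_gen (by norm_num)] at h2
    exact absurd h2 (by decide +kernel)
  rw [hbot, Subgroup.mem_bot] at hc
  exact (inv_mul_eq_one.mp hc).symm

theorem commute_Tn_iff (c d : Fin D.n) : Commute (Tn c) (Tn d) ↔ act (Tn c) d = d := by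
  rw [Tn, Tn, commute_iff, act_rep]

theorem fixed_iff {w : List ℕ} (hw : ∀ g ∈ w, g < 10) (c : Fin D.n) :
    Wd w (Tn c) = Tn c ↔ pathEnd T' w c.val = c.val := by
  rw [Wd_Tn w hw]
  exact ⟨fun h => congrArg Fin.val (Tn_inj h), fun h => congrArg Tn (Fin.ext h)⟩

/-- counting a condition on a range -/
noncomputable def count (n : ℕ) (f : ℕ → Bool) : ℕ :=
  Nat.rec (motive := fun _ => ℕ) 0 (fun m ih => ih + (bif f m then 1 else 0)) n

theorem count_eq (f : ℕ → Bool) : ∀ n, count n f = ((Finset.range n).filter fun m => f m = true).card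
  | 0 => rfl
  | n + 1 => by
    show count n f + _ = _
    rw [count_eq f n, Finset.range_add_one, Finset.filter_insert]
    cases hf : f n with
    | false => simp
    | true => rw [if_pos rfl, Finset.card_insert_of_notMem (by simp), cond_true]

end Fi22Aut
end H46
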