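import Mathlib
import Cfsg.Agent.H46.Fi22Aut.Perm
import Cfsg.Agent.H46.Fi22Aut.Frame

/-!
An outer automorphism of order 2 of `Fi22` fixing a transposition is conjugate to one of three.
-/

set_option autoImplicit false
set_option maxRecDepth 100000

namespace H46
namespace Fi22Aut

open H93 H93.Coset H96 H96.Fi22Out Matrix
open Fi22O7 (G gen D A act sq1 mem_A_of_fix commute_zero finite_G)
open Fi22U6 (K W SU6 hK hh hh_eq cd pos dec enc rv rc Gam Good)

local notation "⟪" x ", " y "⟫" => Cfsg.hermForm 6 K 2 x y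

/-- the columns of the outer automorphism -/
def bcol (j : Fin 6) : W := dec (([1724, 4067, 3403, 2590, 2206, 701] : List ℕ).getD j.val 0)

/-- the squares of the coordinates -/
def fr (x : W) : W := fun i => x i * x i

/-- the action of the outer automorphism on vectors -/
def bApp (x : W) : W := fr x 0 • bcol 0 + fr x 1 • bcol 1 + fr x 2 • bcol 2 + fr x 3 • bcol 3 +
  fr x 4 • bcol 4 + fr x 5 • bcol 5

/-- the same as a matrix -/
def bMat : Matrix (Fin 6) (Fin 6) K := Matrix.of fun i j => bcol j i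

theorem bApp_eq (x : W) : bApp x = bMat *ᵥ fr x := by
  funext i
  simp [bApp, bMat, mulVec, dotProduct, Fin.sum_univ_six, mul_comm]

/-- squaring -/
def sqHom : K →+* K where
  toFun a := a * a
  map_one' := one_mul 1
  map_mul' := by decide +kernel
  map_zero' := zero_mul 0
  map_add' := by decide +kernel

theorem fr_add (x y : W) : fr (x + y) = fr x + fr y := funext fun i => sqHom.map_add (x i) (y i)

theorem fr_smul (l : K) (x : W) : fr (l • x) = (l * l) • fr x := funext fun i => sqHom.map_mul l (x i)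

theorem bcol_gram : ∀ i j : Fin 6, hh (bcol i) (bcol j) = if i = j then 1 else 0 := by decide +kernel

theorem pow_four' : ∀ a : K, a * a * (a * a) = a := by decide +kernel

theorem bMat_iso : H50.IsIso 2 bMat := by
  intro u v
  have he : ∀ x : W, bMat *ᵥ x = ∑ j, x j • bcol j := fun x => by
    funext i; simp [bMat, mulVec, dotProduct, Finset.sum_apply, mul_comm]
  rw [he, he, H50.h_sum_left]
  simp only [H50.h_smul_left, H50.h_sum_right hK, H50.h_smul_right hK, hh_eq, bcol_gram]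
  simp [← hh_eq, Cfsg.hermForm]
  exact Finset.sum_congr rfl fun i _ => mul_comm _ _

theorem h_fr (x y : W) : ⟪fr x, fr y⟫ = ⟪x, y⟫ * ⟪x, y⟫ := by
  show (∑ i, fr x i * fr y i ^ 2) = sqHom (∑ i, x i * y i ^ 2)
  rw [map_sum]
  refine Finset.sum_congr rfl fun i _ => ?_
  show x i * x i * (y i * y i) ^ 2 = x i * y i ^ 2 * (x i * y i ^ 2)
  ring

/-- the check that the outer automorphism moves the points as the semilinear map does -/
noncomputable def bvOK : Bool := allRange 0 3510 fun c => bif Nat.beq (cd c) 0 then true else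
  force (bn c) fun e => Nat.beq (bn e) c && !(Nat.beq (cd e) 0) &&
    Fi22U6.scal.any fun s => decide (bApp (dec (cd c)) = s • dec (cd e))

theorem bv_ok : bvOK = true := by decide +kernel

theorem bv_spec {c : ℕ} (hc : c < 3510) (h : cd c ≠ 0) : bn (bn c) = c ∧ cd (bn c) ≠ 0 ∧
    ∃ s : K, s ≠ 0 ∧ bApp (dec (cd c)) = s • dec (cd (bn c)) := by
  have h1 := allRange_spec bv_ok c (Nat.zero_le _) (by omega)
  rw [Fi22U6.beq_false h, cond_false, force_eq, Bool.and_eq_true, Bool.and_eq_true] at h1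
  obtain ⟨s, hs, e⟩ := List.any_eq_true.mp h1.2
  refine ⟨Nat.eq_of_beq_eq_true h1.1.1, fun e' => ?_, s, Fi22U6.scal_ne s hs, of_decide_eq_true e⟩
  have := h1.1.2
  rw [e'] at this
  exact absurd this (by decide)

/-- the semilinear map of an isometry times the outer automorphism -/
noncomputable def tU (u : SU6) (x : W) : W := H50.suMat u *ᵥ bApp x

theorem tU_add (u : SU6) (x y : W) : tU u (x + y) = tU u x + tU u y := by
  simp [tU, bApp_eq, fr_add, mulVec_add]

theorem tU_smul (u : SU6) (l : K) (x : W) : tU u (l • x) = (l * l) • tU u x := by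
  simp [tU, bApp_eq, fr_smul, mulVec_smul]

theorem tU_iso (u : SU6) (x y : W) : ⟪tU u x, tU u y⟫ = ⟪x, y⟫ * ⟪x, y⟫ := by
  rw [tU, tU, bApp_eq, bApp_eq, H50.suMat_h, bMat_iso, h_fr]

/-- the node permutation -/
noncomputable def sg (a : G) (c : Fin D.n) : Fin D.n := act a (bnF c)

theorem conj_Tn (a : G) (c : Fin D.n) : MulAut.conj a (Tn c) = Tn (act a c) := by
  rw [MulAut.conj_apply, Tn, ← T_mul]
  exact Tn_eq (by rw [map_mul, Equiv.Perm.mul_apply, act_rep])

theorem beta_Tn (c : Fin D.n) : beta (Tn c) = Tn (bnF c) := gA_Tn (g := 9) (by norm_num) c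

theorem tau_Tn (a : G) (c : Fin D.n) : (MulAut.conj a * beta) (Tn c) = Tn (sg a c) := by
  rw [MulAut.mul_apply, beta_Tn, conj_Tn]; rfl

theorem good_sg {p : G × SU6} (hp : Good p) {c : Fin D.n} (hc : cd c.val ≠ 0) :
    cd (sg p.1 c).val ≠ 0 ∧
      ∃ s : K, s ≠ 0 ∧ tU p.2 (dec (cd c.val)) = s • dec (cd (sg p.1 c).val) := by
  obtain ⟨-, h1, s, hs, h2⟩ := bv_spec (lt_of_lt_of_eq c.2 rfl) hc
  obtain ⟨h3, t, ht, h4⟩ := hp (bnF c) h1
  refine ⟨h3, s * t, mul_ne_zero hs ht, ?_⟩
  rw [tU, h2, mulVec_smul]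
  show s • (H50.suMat p.2 *ᵥ dec (cd (bnF c).val)) = _
  rw [h4, smul_smul]
  rfl

theorem semi_of_invol {p : G × SU6} (hp : Good p) (hinv : ∀ c, sg p.1 (sg p.1 c) = c) :
    Semi (tU p.2) := by
  refine ⟨tU_add _, tU_smul _, tU_iso _, ?_⟩
  set L : W →ₗ[K] W :=
    { toFun := fun x => tU p.2 (tU p.2 x)
      map_add' := fun x y => by rw [tU_add, tU_add]
      map_smul' := fun l x => by rw [tU_smul, tU_smul, pow_four', RingHom.id_apply] } with hL
  have hLi : ∀ x y, ⟪L x, L y⟫ = ⟪x, y⟫ := fun x y => by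
    show ⟪tU p.2 (tU p.2 x), tU p.2 (tU p.2 y)⟫ = _
    rw [tU_iso, tU_iso, pow_four']
  have hk : ∀ i : Fin 13, ∃ e : K, e ≠ 0 ∧ L (rv i) = e • rv i := by
    intro i
    obtain ⟨hlet, -, -, hp', hc, -, -⟩ := Fi22U6.root_spec i
    have hlt : rc i < D.n := hp' ▸ pathEnd_lt H93.Fi22ATable.fit.model.tables _ hlet (by decide)
    obtain ⟨h1, s, hs, h2⟩ := good_sg hp (c := ⟨rc i, hlt⟩) hc
    obtain ⟨-, t, ht, h4⟩ := good_sg hp h1
    refine ⟨s * s * t, mul_ne_zero (mul_ne_zero hs hs) ht, ?_⟩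
    show tU p.2 (tU p.2 (dec (cd (rc i)))) = _
    rw [h2, tU_smul, h4, hinv, smul_smul]
    rfl
  choose e he0 hee using hk
  have hedge : ∀ a b, hh (rv a) (rv b) ≠ 0 → e a = e b := by
    intro a b hab
    have h1 := hLi (rv a) (rv b)
    rw [hee, hee, H50.h_smul_left, H50.h_smul_right hK, hh_eq, pow_two] at h1
    refine Fi22U6.scalar_pair _ _ (mul_right_cancel₀ hab ?_)
    linear_combination h1
  have e1 := hedge 0 1 (Fi22U6.edges_ok (0, 1) (by simp))
  have e2 := hedge 1 2 (Fi22U6.edges_ok (1, 2) (by simp))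
  have e3 := hedge 2 3 (Fi22U6.edges_ok (2, 3) (by simp))
  have e4 := hedge 3 4 (Fi22U6.edges_ok (3, 4) (by simp))
  have e5 := hedge 1 5 (Fi22U6.edges_ok (1, 5) (by simp))
  have e6 := hedge 5 6 (Fi22U6.edges_ok (5, 6) (by simp))
  have e7 := hedge 2 7 (Fi22U6.edges_ok (2, 7) (by simp))
  have hall : ∀ i : Fin 8, e (i.castLE (by norm_num)) = e 0 := by
    intro i
    fin_cases i <;> simp_all
  have hsc : ∀ x, L x = e 0 • x := by
    have h : L = e 0 • LinearMap.id := by
      refine LinearMap.pi_ext' fun j => LinearMap.ext_ring ?_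
      show L (Pi.single j 1) = e 0 • (Pi.single j 1 : W)
      rw [← Fi22U6.comb_ok j, map_sum, Finset.smul_sum]
      refine Finset.sum_congr rfl fun i _ => ?_
      rw [map_smul, hee, hall, smul_comm]
    intro x
    rw [h]; rfl
  have hl : e 0 = 1 := by
    have h1 := hsc (tU p.2 (rv 0))
    change tU p.2 (L (rv 0)) = _ at h1
    rw [hsc, tU_smul] at h1
    have hne : tU p.2 (rv 0) ≠ 0 := by
      intro h0
      have hz : tU p.2 (0 : W) = 0 := by simpa using tU_smul p.2 0 0
      have h2 := hee 0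
      change tU p.2 (tU p.2 (rv 0)) = _ at h2
      rw [h0, hz] at h2
      rcases smul_eq_zero.mp h2.symm with h | h
      · exact he0 0 h
      · exact absurd h (by decide +kernel)
    exact (sq_fix _ (smul_left_injective K hne h1)).resolve_left (he0 0)
  intro x
  have := hsc x
  rwa [hl, one_smul] at this

/-- every isometry is carried by an element of the stabiliser, up to a scalar -/
theorem exists_pair (g : SU6) : ∃ p ∈ Gam, ∃ l : K, l ≠ 0 ∧ H50.suMat p.2 = l • H50.suMat g := by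
  haveI := finite_G
  haveI := Fi22U6.finite_SU
  let ψ : Gam →* Cfsg.PSU 6 K 2 :=
    (QuotientGroup.mk' _).comp ((MonoidHom.snd G SU6).comp Gam.subtype)
  let φ : Gam →* G := (MonoidHom.fst G SU6).comp Gam.subtype
  have hφ : φ.range = A := by
    rw [MonoidHom.range_comp, Subgroup.range_subtype, Fi22U6.gam_fst]
  have hgood : ∀ p : Gam, Good p.1 := fun p => Fi22U6.good_of_mem p.2
  have hle : (ψ.ker.map φ) ≤ Subgroup.zpowers (gen 0) := by
    rintro _ ⟨p, hp, rfl⟩
    have h1 : ((p.1.2 : SU6) : Cfsg.PSU 6 K 2) = 1 := hp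
    rw [QuotientGroup.eq_one_iff, H50.mem_center_iff_scalar hK (by norm_num)] at h1
    obtain ⟨l, hl⟩ := h1
    rcases Fi22U6.eq_or_eq_of_fix (Fi22U6.mem_A_of_mem p.2)
      (Fi22U6.fix_of_scalar (hgood p) hl) with e | e
    · show p.1.1 ∈ _; rw [e]; exact one_mem _
    · show p.1.1 ∈ _; rw [e]; exact Subgroup.mem_zpowers _
  have hker : φ.ker ≤ ψ.ker := by
    intro p hp
    show ((p.1.2 : SU6) : Cfsg.PSU 6 K 2) = 1
    rw [QuotientGroup.eq_one_iff, H50.mem_center_iff_scalar hK (by norm_num)]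
    refine Fi22U6.scalar_of_fix (hgood p) fun c _ => ?_
    rw [show p.1.1 = 1 from hp, map_one, Equiv.Perm.one_apply]
  have htop : ψ.range = ⊤ := by
    refine Subgroup.eq_top_of_le_card _ ?_
    rw [Fi22U6.card_PSU, ← Subgroup.index_ker]
    have h0 : Nat.card φ.range = 18393661440 := by rw [hφ, Fi22U6.card_A]
    have h1 := Subgroup.index_map ψ.ker φ
    rw [sup_eq_left.mpr hker] at h1
    have h2 : Nat.card (ψ.ker.map φ) ≤ 2 := by
      refine (Subgroup.card_le_of_le hle).trans ?_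
      rw [Nat.card_zpowers]
      exact orderOf_le_of_pow_eq_one (by norm_num) (by rw [pow_two]; exact sq1 (by norm_num))
    have h3 := Subgroup.card_mul_index (ψ.ker.map φ)
    have h4 := Subgroup.card_mul_index φ.range
    rw [h1] at h3
    rw [h0] at h4
    have hG := h3.trans h4.symm
    have hri : 0 < φ.range.index := Nat.pos_of_ne_zero Subgroup.index_ne_zero_of_finite
    have h5 : Nat.card (ψ.ker.map φ) * ψ.ker.index = 18393661440 :=
      Nat.eq_of_mul_eq_mul_right hri (by rw [mul_assoc]; exact hG)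
    by_contra hlt
    push Not at hlt
    have : Nat.card (ψ.ker.map φ) * ψ.ker.index < 2 * 9196830720 :=
      lt_of_le_of_lt (Nat.mul_le_mul_right _ h2) (Nat.mul_lt_mul_of_pos_left hlt (by norm_num))
    omega
  have hx : (g : Cfsg.PSU 6 K 2) ∈ ψ.range := by rw [htop]; trivial
  obtain ⟨p, hp⟩ := hx
  have h1 : p.1.2⁻¹ * g ∈ Subgroup.center SU6 := QuotientGroup.eq.mp hp
  obtain ⟨l, hl⟩ := (H50.mem_center_iff_scalar hK (by norm_num)).mp h1
  have e : H50.suMat g = l • H50.suMat p.1.2 := by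
    rw [show g = p.1.2 * (p.1.2⁻¹ * g) by group, H50.suMat_mul, hl, Matrix.mul_smul, Matrix.mul_one]
  have hl0 : l ≠ 0 := by
    rintro rfl
    have h := congrArg Matrix.det e
    rw [zero_smul, det_zero, show (H50.suMat g).det = 1 from g.1.2] at h
    exact one_ne_zero h
  exact ⟨p.1, p.2, l⁻¹, inv_ne_zero hl0, by rw [e, inv_smul_smul₀ hl0]⟩

/-- the stabiliser is invariant under the outer automorphism -/
theorem beta_mem_A {a : G} (ha : a ∈ A) : beta a ∈ A := by
  rw [← Fi22Class.centralizer_eq, Subgroup.mem_centralizer_singleton_iff] at ha ⊢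
  rw [← beta_gen_zero, ← map_mul, ha, map_mul]

theorem mulVec_tU (u : SU6) (U : Matrix (Fin 6) (Fin 6) K) (j : Fin 6) :
    tU u (U *ᵥ Pi.single j 1) = (H50.suMat u * bMat * U.map sqHom) *ᵥ Pi.single j 1 := by
  rw [tU, bApp_eq, ← mulVec_mulVec, ← mulVec_mulVec]
  congr 2
  funext i
  rw [mulVec_single_one, mulVec_single_one]
  rfl

theorem suMat_det (g : SU6) : (H50.suMat g).det = 1 := g.1.2

theorem det_five {a b c d e : Matrix (Fin 6) (Fin 6) K} (h : a * b * c = d * (e * b)) :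
    a.det * b.det * c.det = d.det * (e.det * b.det) := by
  rw [← det_mul, ← det_mul, ← det_mul, ← det_mul, h]

theorem det_map_sq (U : Matrix (Fin 6) (Fin 6) K) : (U.map sqHom).det = sqHom U.det :=
  (RingHom.map_det sqHom U).symm

/-- conjugation of an involution to a standard one -/
theorem to_standard {p p₀ : G × SU6} (hp : p ∈ Gam) (hp₀ : p₀ ∈ Gam) (h : Semi (tU p.2))
    (h₀ : Semi (tU p₀.2)) {f f₀ : Fin 6 → W} (hf : ∀ i, tU p.2 (f i) = f i)
    (hf₀ : ∀ i, tU p₀.2 (f₀ i) = f₀ i) (hgram : ∀ i j, ⟪f₀ i, f₀ j⟫ = ⟪f i, f j⟫)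
    (hspan : ∀ j, ∃ c : Fin 6 → K, (∑ i, c i • f₀ i) = Pi.single j 1) :
    ∃ c r : G, (r = 1 ∨ r = gen 0) ∧
      MulAut.conj c⁻¹ * (MulAut.conj p.1 * beta) * MulAut.conj c =
        MulAut.conj (p₀.1 * r) * beta := by
  have hsp : ⊤ ≤ Submodule.span K (Set.range f₀) := by
    intro x _
    rw [← Finset.univ_sum_single x]
    refine Submodule.sum_mem _ fun j _ => ?_
    obtain ⟨c, hc⟩ := hspan j
    rw [show Pi.single j (x j) = x j • (Pi.single j 1 : W) by rw [← Pi.single_smul, smul_eq_mul, mul_one],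
      ← hc]
    exact Submodule.smul_mem _ _ (Submodule.sum_mem _ fun i _ =>
      Submodule.smul_mem _ _ (Submodule.subset_span ⟨i, rfl⟩))
  have hli : LinearIndependent K f₀ :=
    linearIndependent_of_top_le_span_of_card_eq_finrank hsp (by simp)
  obtain ⟨U, hU, hUf⟩ := H50.exists_iso_of_basis hK (by simp) hli (fun i j => hgram i j)
  have hcomm : ∀ x, tU p.2 (U *ᵥ x) = U *ᵥ tU p₀.2 x := by
    intro x
    obtain ⟨c, hc⟩ : ∃ c : Fin 6 → K, ∑ i, c i • f₀ i = x :=
      (Submodule.mem_span_range_iff_exists_fun K).mp (hsp Submodule.mem_top)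
    subst hc
    simp [mulVec_sum, mulVec_smul, hUf, h.map_sum, h₀.map_sum, tU_smul, hf, hf₀]
  have hdet : U.det = 1 := by
    have hm : H50.suMat p.2 * bMat * U.map sqHom = U * (H50.suMat p₀.2 * bMat) := by
      refine Matrix.ext_of_mulVec_single fun j => ?_
      rw [← mulVec_tU, hcomm, ← mulVec_mulVec]
      congr 1
      rw [tU, bApp_eq, ← mulVec_mulVec]
      congr 2
      funext i
      simp [fr, Pi.single_apply]
    have h1 := det_five hm
    rw [suMat_det p.2, suMat_det p₀.2, one_mul, det_map_sq] at h1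
    have hb := bMat_iso.det_ne_zero hK
    have h2 : sqHom U.det = U.det := mul_left_cancel₀ hb (h1.trans (mul_comm _ _))
    exact (sq_fix _ h2).resolve_left (hU.det_ne_zero hK)
  obtain ⟨q, hq, l, hl0, hl⟩ := exists_pair (H50.mkSU U hU hdet)
  have hl : H50.suMat q.2 = l • U := hl
  set c := q.1 with hc
  have hcA : c ∈ A := Fi22U6.mem_A_of_mem hq
  set y := c⁻¹ * p.1 * beta c with hy
  have hyA : y ∈ A := mul_mem (mul_mem (inv_mem hcA) (Fi22U6.mem_A_of_mem hp)) (beta_mem_A hcA)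
  have hkey : ∀ d : Fin D.n, cd d.val ≠ 0 → act y (bnF d) = act p₀.1 (bnF d) := by
    intro d hd
    obtain ⟨h1, s₁, hs₁, e1⟩ := Fi22U6.good_of_mem hq d hd
    obtain ⟨h2, s₂, hs₂, e2⟩ := good_sg (Fi22U6.good_of_mem hp) h1
    obtain ⟨h3, s₃, hs₃, e3⟩ := good_sg (Fi22U6.good_of_mem hp₀) hd
    obtain ⟨h4, s₄, hs₄, e4⟩ := Fi22U6.good_of_mem hq _ h3
    rw [hl, smul_mulVec] at e1 e4
    have e5 : ∃ s : K, s ≠ 0 ∧
        dec (cd (sg p.1 (act c d)).val) = s • dec (cd (act c (sg p₀.1 d)).val) := by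
      have a1 := congrArg (tU p.2) e1
      have a2 : U *ᵥ dec (cd (sg p₀.1 d).val) = (l⁻¹ * s₄) • dec (cd (act c (sg p₀.1 d)).val) := by
        rw [mul_smul, ← e4, inv_smul_smul₀ hl0]
      rw [tU_smul, tU_smul, hcomm, e3, mulVec_smul, e2, a2] at a1
      simp only [smul_smul] at a1
      refine ⟨(s₁ * s₁ * s₂)⁻¹ * (l * l * (s₃ * (l⁻¹ * s₄))), ?_, ?_⟩
      · simp [hl0, hs₁, hs₂, hs₃, hs₄]
      · simp only [mul_assoc] at a1 ⊢
        rw [mul_smul, a1, inv_smul_smul₀ (by simp [hs₁, hs₂])]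
    obtain ⟨s, hs, e6⟩ := e5
    have h7 : sg p.1 (act c d) = act c (sg p₀.1 d) := by
      have b1 := (Fi22U6.pos_spec (lt_of_lt_of_eq (sg p.1 (act c d)).2 rfl) h2).2 1 one_ne_zero
      have b2 := (Fi22U6.pos_spec (lt_of_lt_of_eq (act c (sg p₀.1 d)).2 rfl) h4).2 s hs
      rw [one_smul, e6, b2] at b1
      exact Fin.ext b1.symm
    rw [hy, map_mul, map_mul, Equiv.Perm.mul_apply, Equiv.Perm.mul_apply, act_beta, map_inv,
      Equiv.Perm.inv_eq_iff_eq]
    exact h7
  have hr : ∀ d : Fin D.n, cd d.val ≠ 0 → act (p₀.1⁻¹ * y) d = d := by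
    intro d hd
    obtain ⟨h1, h2, -⟩ := bv_spec (lt_of_lt_of_eq d.2 rfl) hd
    have := hkey (bnF d) h2
    rw [show bnF (bnF d) = d from Fin.ext h1] at this
    rw [map_mul, Equiv.Perm.mul_apply, this, map_inv, Equiv.Perm.inv_eq_iff_eq]
  refine ⟨c, p₀.1⁻¹ * y, Fi22U6.eq_or_eq_of_fix
    (mul_mem (inv_mem (Fi22U6.mem_A_of_mem hp₀)) hyA) hr, ?_⟩
  rw [mul_inv_cancel_left, hy]
  refine MulEquiv.ext fun x => ?_
  simp only [MulAut.mul_apply, MulAut.conj_apply, map_mul, map_inv, _root_.mul_inv_rev, inv_inv, mul_assoc]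

/-- the fixed frame of the first standard involution -/
def fI (i : Fin 6) : W := dec (([351, 411, 603, 1043, 3013, 3448] : List ℕ).getD i.val 0)

/-- its inverse -/
def gI (j : Fin 6) : W := dec (([426, 3390, 2133, 1565, 1589, 2880] : List ℕ).getD j.val 0)

/-- the fixed frame of the second standard involution -/
def fII (i : Fin 6) : W := dec (([49, 333, 245, 821, 1725, 2411] : List ℕ).getD i.val 0)

/-- its inverse -/
def gII (j : Fin 6) : W := dec (([1621, 2898, 2984, 3457, 3361, 1792] : List ℕ).getD j.val 0)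

theorem frames_ok : (∀ i, Fi22U6.tv (rv 0) (bApp (fI i)) = fI i ∧ bApp (fII i) = fII i) ∧
    (∀ i j, hh (fI i) (fI j) = (if i = j then 1 else 0) ∧ hh (fII i) (fII j) = jPat i j) ∧
    ∀ j, (∑ i, gI j i • fI i) = Pi.single j 1 ∧ (∑ i, gII j i • fII i) = Pi.single j 1 := by
  decide +kernel

theorem beta_sq : beta * beta = 1 := by
  have h := Wd_eq (show sameW [9, 9] [] = true by decide +kernel)
  simpa [Wd, ev, gA] using h

theorem gen2_eq' : Fi22U6.tt 0 = gen 2 := by
  rw [Fi22U6.tt, show Fi22U6.lw 0 = [2] by decide +kernel]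
  exact one_mul _

theorem beta_fix {g : ℕ} (hg : g < 9) (h7 : g ≠ 7) : beta (gen g) = gen g := by
  rw [show beta (gen g) = betaHom (gen g) from rfl, betaHom_gen hg, gen2, img,
    show Nat.beq g 7 = false from by
      rw [Bool.eq_false_iff]; intro e; exact h7 (Nat.eq_of_beq_eq_true e), cond_false]
  exact one_mul _

theorem beta_comm (x : G) (hx : beta x = x) : MulAut.conj x * beta = beta * MulAut.conj x := by
  refine MulEquiv.ext fun y => ?_
  simp [hx]

/-- an outer involution fixing a transposition is conjugate to one of three -/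
theorem outer_classes {t : MulAut G} (h2 : orderOf t = 2)
    (hout : t ∉ (MulAut.conj : G →* MulAut G).range) (hfix : ∃ c, t (Tn c) = Tn c) :
    IsConj t beta ∨ IsConj t (beta * MulAut.conj (gen 0)) ∨
      IsConj t (beta * MulAut.conj (gen 0 * gen 2)) := by
  obtain ⟨c₀, hc₀⟩ := hfix
  set u := rep c₀ with hu
  set t' := MulAut.conj u⁻¹ * t * MulAut.conj u with ht'
  have hconj : IsConj t t' := isConj_iff.mpr ⟨MulAut.conj u⁻¹, by rw [ht', ← map_inv, inv_inv]⟩
  have hfix0 : t' (gen 0) = gen 0 := by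
    rw [ht', MulAut.mul_apply, MulAut.mul_apply, MulAut.conj_apply u]
    show MulAut.conj u⁻¹ (t (Tn c₀)) = _
    rw [hc₀, MulAut.conj_apply, Tn, T, hu]
    group
  have hsq : t' * t' = 1 := by
    have h : t * t = 1 := by rw [← pow_two, ← h2]; exact pow_orderOf_eq_one t
    rw [ht', map_inv]
    calc _ = (MulAut.conj u)⁻¹ * (t * t) * MulAut.conj u := by group
      _ = 1 := by rw [h]; group
  obtain ⟨x, hx⟩ := aut_cases t'
  rcases hx with hx | hx
  · exfalso
    refine hout ⟨u * x⁻¹ * u⁻¹, ?_⟩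
    rw [map_mul, map_mul, map_inv, map_inv, ← eq_inv_of_mul_eq_one_right hx, ht', map_inv]
    group
  set a := x⁻¹ with ha
  have hta : t' = MulAut.conj a * beta := by rw [ha, map_inv, ← hx, inv_mul_cancel_left]
  have haA : a ∈ A := by
    rw [← Fi22Class.centralizer_eq, Subgroup.mem_centralizer_singleton_iff]
    rw [hta, MulAut.mul_apply, beta_gen_zero, MulAut.conj_apply, mul_inv_eq_iff_eq_mul] at hfix0
    exact hfix0
  obtain ⟨p, hp, hpa⟩ : a ∈ Gam.map (MonoidHom.fst G SU6) := by rw [Fi22U6.gam_fst]; exact haA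
  change p.1 = a at hpa
  have hinv : ∀ c, sg p.1 (sg p.1 c) = c := fun c => by
    refine Tn_inj ?_
    rw [← tau_Tn, ← tau_Tn, ← MulAut.mul_apply, hpa, ← hta, hsq, MulAut.one_apply]
  have hS := semi_of_invol (Fi22U6.good_of_mem hp) hinv
  have hinv0 : ∀ g : G, beta g = g → g * g = 1 → ∀ c, sg g (sg g c) = c := fun g hg h1 c => by
    refine Tn_inj ?_
    rw [← tau_Tn, ← tau_Tn, ← MulAut.mul_apply, beta_comm g hg]
    conv_lhs => rw [mul_assoc, ← mul_assoc (MulAut.conj g), beta_comm g hg, mul_assoc beta,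
      ← map_mul, h1, map_one, mul_one, beta_sq]
    rfl
  have h00 : gen 0 * gen 0 = 1 := sq1 (by norm_num)
  have hb0 : beta (gen 0) = gen 0 := beta_gen_zero
  have hb2 : beta (gen 2) = gen 2 := beta_fix (by norm_num) (by norm_num)
  have finish : ∀ {g : G}, beta g = g →
      (∃ c r : G, (r = 1 ∨ r = gen 0) ∧
        MulAut.conj c⁻¹ * (MulAut.conj p.1 * beta) * MulAut.conj c = MulAut.conj (g * r) * beta) →
      IsConj t (beta * MulAut.conj g) ∨ IsConj t (beta * MulAut.conj (g * gen 0)) := by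
    rintro g hg ⟨c, r, hr, h⟩
    have h1 : IsConj t (MulAut.conj (g * r) * beta) := hconj.trans (isConj_iff.mpr ⟨MulAut.conj c⁻¹, by
      rw [hta, ← hpa, ← map_inv, inv_inv]; exact h⟩)
    rcases hr with rfl | rfl
    · rw [mul_one, beta_comm g hg] at h1; exact Or.inl h1
    · rw [beta_comm (g * gen 0) (by rw [map_mul, hg, hb0])] at h1; exact Or.inr h1
  obtain ⟨hfr, hgr, hsp⟩ := frames_ok
  rcases hS.orth_dichotomy with ⟨f, hf, hfg⟩ | hall
  · have hp2 : ((gen 2, Fi22U6.uT 0) : G × SU6) ∈ Gam := by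
      rw [← gen2_eq']; exact Subgroup.subset_closure (Or.inr ⟨0, rfl⟩)
    have h0 := semi_of_invol (Fi22U6.good_of_mem hp2) (hinv0 _ hb2 (sq1 (g := 2) (by norm_num)))
    have := finish hb2 (to_standard hp hp2 hS h0 hf
      (fun i => by rw [tU, Fi22U6.uT_apply]; exact (hfr i).1)
      (fun i j => by rw [hfg, hh_eq]; exact (hgr i j).1) (fun j => ⟨_, (hsp j).1⟩))
    have hfuse : IsConj (beta * MulAut.conj (gen 2)) (beta * MulAut.conj (gen 0)) := by
      have h := Wd_eq (show sameW [2, 9, 1, 2, 0, 1] [1, 2, 0, 1, 0, 9] = true by decide +kernel)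
      refine isConj_iff.mpr ⟨MulAut.conj (ev gen [1, 2, 0, 1]), ?_⟩
      rw [← Wd_eq_conj [1, 2, 0, 1] (by simp)]
      have e1 : beta * MulAut.conj (gen 2) = Wd [2, 9] := by simp [Wd, ev, gA]
      have e2 : beta * MulAut.conj (gen 0) = Wd [0, 9] := by simp [Wd, ev, gA]
      rw [e1, e2, mul_inv_eq_iff_eq_mul, ← Wd_append, ← Wd_append]
      exact h
    rcases this with h | h
    · exact Or.inr (Or.inl (h.trans hfuse))
    · have e : gen 2 * gen 0 = gen 0 * gen 2 :=
        (commute_zero (mem_A_of_fix (Fin.ext ((Fi22U6.act_gen (by norm_num) _).trans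
          (show D.T 2 0 = 0 by decide +kernel))))).eq.symm
      rw [e] at h
      exact Or.inr (Or.inr h)
  · obtain ⟨f, hf, hfg⟩ := hS.symp_frame hall
    have h0 := semi_of_invol (Fi22U6.good_of_mem (one_mem Gam))
      (hinv0 _ (map_one _) (one_mul _))
    have := finish (map_one beta) (to_standard hp (one_mem Gam) hS h0 hf
      (fun i => by rw [tU, Prod.snd_one, H50.suMat_one, one_mulVec]; exact (hfr i).2)
      (fun i j => by rw [hfg, hh_eq]; exact (hgr i j).2) (fun j => ⟨_, (hsp j).2⟩))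
    rw [map_one, mul_one, one_mul] at this
    rcases this with h | h
    · exact Or.inl h
    · exact Or.inr (Or.inl h)

end Fi22Aut
end H46
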