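import Mathlib
import Cfsg.Agent.H46.Fi22Aut.Classes
import Cfsg.Agent.H46.Fi22Aut.CentData

/-!
Tools for centralisers in `Fi22`: orders from orbits of nodes, homomorphisms from labels of nodes.
-/

set_option autoImplicit false
set_option maxRecDepth 100000

namespace H46
namespace Fi22Aut
namespace Cent

open H93 H93.Coset H96 H96.Fi22Out
open Fi22O7 (G gen D A act sq1 mem_A_of_fix commute_zero finite_G)

/-- the path to a listed node -/
def pw (c : ℕ) : List ℕ := ((paths.find? fun q => Nat.beq q.1 c).getD (0, [])).2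

/-- the word of the transposition of a listed node -/
def tw (c : ℕ) : List ℕ := (pw c).reverse ++ [0] ++ pw c

/-- a listed node -/
def listed (c : ℕ) : Bool := paths.any fun q => Nat.beq q.1 c

theorem paths_ok : (paths.all fun q => Nat.blt q.1 3510 && (pw q.1).all (fun g => Nat.blt g 9) &&
    Nat.beq (pathEnd D.T (pw q.1) 0) q.1) = true := by
  decide +kernel

theorem pw_spec {c : ℕ} (hc : listed c = true) :
    c < 3510 ∧ (∀ g ∈ pw c, g < 9) ∧ pathEnd D.T (pw c) 0 = c := by
  obtain ⟨q, hq, he⟩ := List.any_eq_true.mp hc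
  have h := List.all_eq_true.mp paths_ok q hq
  rw [Nat.eq_of_beq_eq_true he] at h
  simp only [Bool.and_eq_true, List.all_eq_true, Data.blt_iff, Nat.beq_eq] at h
  exact ⟨h.1.1, h.1.2, h.2⟩

theorem tw_lt {c : ℕ} (hc : listed c = true) : ∀ g ∈ tw c, g < 9 := by
  intro g hg
  simp only [tw, List.mem_append, List.mem_reverse, List.mem_singleton] at hg
  rcases hg with (hg | hg) | hg
  · exact (pw_spec hc).2.1 g hg
  · omega
  · exact (pw_spec hc).2.1 g hg

/-- a node -/
def nd (c : ℕ) (h : c < 3510) : Fin D.n := ⟨c, h⟩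

theorem node_lt (c : Fin D.n) : c.val < 3510 := lt_of_lt_of_eq c.2 rfl

theorem ev_tw {c : ℕ} (hc : listed c = true) : ev gen (tw c) = Tn (nd c (pw_spec hc).1) := by
  obtain ⟨h1, h2, h3⟩ := pw_spec hc
  rw [tw, Fi22Class.conj_word h2]
  exact Tn_eq (Fin.ext ((H93.Fi22ATable.fit.model.act_ev _ (fun g hg => h2 g hg) z0).trans h3))

/-- the transposition of a listed node -/
noncomputable def tg (c : ℕ) : G := ev gen (tw c)

theorem act_tg {c : ℕ} (hc : listed c = true) (d : Fin D.n) :
    (act (tg c) d).val = pathEnd D.T (tw c) d.val :=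
  H93.Fi22ATable.fit.model.act_ev _ (tw_lt hc) d

theorem tg_sq {c : ℕ} (hc : listed c = true) : tg c * tg c = 1 := by
  rw [tg, ev_tw hc, Tn, T]
  calc _ = rep (nd c (pw_spec hc).1) * (gen 0 * gen 0) * (rep (nd c (pw_spec hc).1))⁻¹ := by group
    _ = 1 := by rw [sq1 (by norm_num)]; group

/-- the commutation test of two nodes, the first one listed -/
noncomputable def cmb (p d : ℕ) : Bool := walk D.T (tw p) d fun e => Nat.beq e d

theorem cmb_iff {p : ℕ} (hp : listed p = true) (d : Fin D.n) :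
    cmb p d.val = true ↔ Commute (Tn (nd p (pw_spec hp).1)) (Tn d) := by
  rw [commute_Tn_iff, ← ev_tw hp, Fin.ext_iff, ← tg, act_tg hp, cmb, walk_eq, Nat.beq_eq]

theorem cmb_act {g : G} {p : ℕ} (hp : listed p = true) {hp' : p < 3510}
    (hfix : act g (nd p hp') = nd p hp') (d : Fin D.n) : cmb p (act g d).val = cmb p d.val := by
  rw [Bool.eq_iff_iff, cmb_iff hp, cmb_iff hp]
  conv_lhs => rw [← hfix, ← conj_Tn, ← conj_Tn, commute_iff_eq, ← map_mul, ← map_mul,
    (MulAut.conj g).injective.eq_iff, ← commute_iff_eq]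

/-- the elements of a subgroup fixing some nodes -/
noncomputable def fixIn (H : Subgroup G) (pts : List ℕ) : Subgroup G := H ⊓ fixSub act pts

theorem mem_fixIn {H : Subgroup G} {pts : List ℕ} {g : G} :
    g ∈ fixIn H pts ↔ g ∈ H ∧ ∀ c : Fin D.n, c.val ∈ pts → act g c = c := Iff.rfl

theorem fixIn_nil (H : Subgroup G) : fixIn H [] = H :=
  le_antisymm inf_le_left fun g hg => ⟨hg, fun _ hc => absurd hc (List.not_mem_nil)⟩

theorem fixIn_mono {H H' : Subgroup G} (h : H ≤ H') (pts : List ℕ) :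
    fixIn H pts ≤ fixIn H' pts := inf_le_inf_right _ h

theorem card_orbit_mul (H : Subgroup G) (pts : List ℕ) {b : ℕ} (hb : b < 3510) :
    ((fun g => act g (nd b hb)) '' (fixIn H pts : Set G)).ncard * Nat.card (fixIn H (b :: pts)) =
      Nat.card (fixIn H pts) := by
  haveI := finite_G
  letI : MulAction G (Fin D.n) := MulAction.compHom _ act
  have horb : MulAction.orbit (fixIn H pts) (nd b hb) =
      (fun g => act g (nd b hb)) '' (fixIn H pts : Set G) := by
    ext d
    constructor
    · rintro ⟨⟨g, hg⟩, rfl⟩; exact ⟨g, hg, rfl⟩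
    · rintro ⟨g, hg, rfl⟩; exact ⟨⟨g, hg⟩, rfl⟩
  have hstab : Nat.card (MulAction.stabilizer (fixIn H pts) (nd b hb)) =
      Nat.card (fixIn H (b :: pts)) := by
    refine Nat.card_congr ⟨fun a => ⟨(a : fixIn H pts).1, (a : fixIn H pts).2.1, fun c hc => ?_⟩,
      fun a => ⟨⟨a.1, a.2.1, fun c hc => a.2.2 c (List.mem_cons_of_mem _ hc)⟩,
        a.2.2 (nd b hb) (by simp [nd])⟩, fun _ => rfl, fun _ => rfl⟩
    rcases List.mem_cons.mp hc with hc | hc
    · obtain rfl : c = nd b hb := Fin.ext hc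
      exact a.2
    · exact (a : fixIn H pts).2.2 c hc
  rw [← horb, ← hstab, ← Nat.card_coe_set_eq, ← Nat.card_prod]
  exact Nat.card_congr (MulAction.orbitProdStabilizerEquivGroup (fixIn H pts) (nd b hb))

theorem step_le {H : Subgroup G} {pts : List ℕ} {b : ℕ} (hb : b < 3510) (L : List ℕ)
    (h : ∀ g ∈ fixIn H pts, (act g (nd b hb)).val ∈ L) :
    Nat.card (fixIn H pts) ≤ L.length * Nat.card (fixIn H (b :: pts)) := by
  rw [← card_orbit_mul H pts hb]
  refine Nat.mul_le_mul ?_ le_rfl
  have h1 := Set.ncard_le_ncard (show Fin.val '' ((fun g => act g (nd b hb)) '' (fixIn H pts : Set G))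
      ⊆ (L.toFinset : Set ℕ) by
    rintro _ ⟨_, ⟨g, hg, rfl⟩, rfl⟩; simpa using h g hg) (Finset.finite_toSet _)
  rw [Set.ncard_image_of_injective _ Fin.val_injective, Set.ncard_coe_finset] at h1
  exact h1.trans L.toFinset_card_le

/-- the check of a level: listed generators in `K` fixing the earlier nodes, and an orbit -/
noncomputable def lvOK (K pts : List ℕ) (b : ℕ) (L : List ℕ × List (ℕ × ℕ × ℕ)) : Bool :=
  Nat.blt b 3510 && L.1.all (fun c => K.contains c && listed c &&
    pts.all fun p => walk D.T (tw c) p fun e => Nat.beq e p) &&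
  (orbFill (withWords D (L.1.map tw)) L.2 (2 ^ b)).isSome

theorem step_ge {H : Subgroup G} {K pts : List ℕ} {b : ℕ} {L : List ℕ × List (ℕ × ℕ × ℕ)}
    (h : lvOK K pts b L = true) (hK : ∀ c ∈ K, tg c ∈ H) :
    (L.2.length + 1) * Nat.card (fixIn H (b :: pts)) ≤ Nat.card (fixIn H pts) := by
  simp only [lvOK, Bool.and_eq_true, List.all_eq_true, Data.blt_iff, Option.isSome_iff_exists,
    List.contains_iff_mem, walk_eq, Nat.beq_eq] at h
  obtain ⟨⟨hb, hgen⟩, m, hfill⟩ := h
  rw [← card_orbit_mul H pts hb]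
  refine Nat.mul_le_mul ?_ le_rfl
  set O := (fun g => act g (nd b hb)) '' (fixIn H pts : Set G) with hO
  obtain ⟨s1, s2⟩ := orbFill_spec L.2 hfill
  obtain ⟨S', hS', hcard⟩ := s2 {b} (fun i => by simp [Nat.testBit_two_pow, eq_comm])
  have hreach : ∀ c, Nat.testBit m c = true → ∃ hc : c < 3510, nd c hc ∈ O := by
    refine s1 (fun c => ∃ hc : c < 3510, nd c hc ∈ O) (fun c hc => ?_) (fun p w hp hw => ?_)
    · rw [Nat.testBit_two_pow, decide_eq_true_eq] at hc
      subst hc
      exact ⟨hb, 1, one_mem _, by simp⟩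
    · obtain ⟨hp, g, hg, hgp⟩ := hp
      obtain ⟨c, hc, rfl⟩ : ∃ c ∈ L.1, tw c = w := by simpa [withWords] using hw
      obtain ⟨⟨hcK, hcl⟩, hfix⟩ := hgen c hc
      refine ⟨Coset.pathEnd_lt H93.Fi22ATable.fit.model.tables _ (tw_lt hcl) hp, tg c * g,
        mul_mem (mem_fixIn.mpr ⟨hK c hcK, fun d hd => Fin.ext ?_⟩) hg, ?_⟩
      · rw [act_tg hcl]; exact hfix _ hd
      · show act (tg c * g) (nd b hb) = _
        rw [map_mul, Equiv.Perm.mul_apply, show act g (nd b hb) = nd p hp from hgp]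
        exact Fin.ext (act_tg hcl _)
  have h1 := Set.ncard_le_ncard (show (S' : Set ℕ) ⊆ Fin.val '' O from fun c hc => by
    obtain ⟨hc', hm⟩ := hreach c ((hS' c).mp hc); exact ⟨_, hm, rfl⟩) (Set.toFinite _)
  rw [Set.ncard_coe_finset, hcard, Finset.card_singleton,
    Set.ncard_image_of_injective _ Fin.val_injective] at h1
  omega

/-- a subgroup of listed transpositions -/
noncomputable def genOf (K : List ℕ) : Subgroup G := Subgroup.closure {x | ∃ c ∈ K, tg c = x}

theorem tg_mem_genOf {K : List ℕ} {c : ℕ} (hc : c ∈ K) : tg c ∈ genOf K :=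
  Subgroup.subset_closure ⟨c, hc, rfl⟩

/-- the list of the fixed nodes of a word -/
noncomputable def fixListOK (w L : List ℕ) : Bool :=
  w.all (fun g => Nat.blt g 10) && L.all (fun c => Nat.blt c 3510) &&
  L.all (fun c => walk T' w c fun e => Nat.beq e c) &&
  allRange 0 3510 fun c => !(walk T' w c fun e => Nat.beq e c) || L.contains c

theorem mem_fix {w L : List ℕ} (h : fixListOK w L = true) (c : Fin D.n) :
    c.val ∈ L ↔ Wd w (Tn c) = Tn c := by
  simp only [fixListOK, Bool.and_eq_true, List.all_eq_true, Data.blt_iff, walk_eq, Nat.beq_eq] at h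
  obtain ⟨⟨⟨h1, -⟩, h3⟩, h4⟩ := h
  rw [fixed_iff h1]
  refine ⟨fun hc => h3 _ hc, fun hc => ?_⟩
  have := allRange_spec h4 c.val (Nat.zero_le _) (by have := node_lt c; omega)
  simpa [hc, walk_eq] using this

theorem act_mem_fix {w L : List ℕ} (h : fixListOK w L = true) {g : G} (hg : Wd w g = g)
    {c : Fin D.n} (hc : c.val ∈ L) : (act g c).val ∈ L := by
  rw [mem_fix h] at hc ⊢
  rw [← conj_Tn, MulAut.conj_apply, map_mul, map_mul, map_inv, hg, hc]

theorem aut_perm (γ : MulAut G) :
    ∃ π : Equiv.Perm (Fin D.n), ∀ c, γ (Tn c) = Tn (π c) := by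
  obtain ⟨x, hx⟩ := aut_cases γ
  have key : ∀ c, ∃ d, γ (Tn c) = Tn d := fun c => by
    rcases hx with h | h
    · refine ⟨act x⁻¹ c, ?_⟩
      rw [eq_inv_of_mul_eq_one_right h, ← map_inv, conj_Tn]
    · refine ⟨act x⁻¹ (bnF c), ?_⟩
      rw [← conj_Tn, ← beta_Tn, ← h, MulAut.mul_apply, map_inv, MulAut.inv_def,
        MulEquiv.symm_apply_apply]
  choose f hf using key
  refine ⟨Equiv.ofBijective f (Finite.injective_iff_bijective.mp fun a b hab => Tn_inj ?_), hf⟩
  apply γ.injective
  rw [hf, hf, hab]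

theorem isConj_length {w w' L L' : List ℕ} (h : fixListOK w L = true) (h' : fixListOK w' L' = true)
    (hd : L.Nodup) (hd' : L'.Nodup) (hc : IsConj (Wd w) (Wd w')) : L.length = L'.length := by
  classical
  obtain ⟨γ, hγ⟩ := isConj_iff.mp hc
  obtain ⟨π, hπ⟩ := aut_perm γ
  have hlen : ∀ {w L : List ℕ}, fixListOK w L = true → L.Nodup →
      (Finset.univ.filter fun c : Fin D.n => Wd w (Tn c) = Tn c).card = L.length := by
    intro w L h hd
    have hlt : ∀ c ∈ L, c < 3510 := by
      simp only [fixListOK, Bool.and_eq_true, List.all_eq_true, Data.blt_iff] at h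
      exact h.1.1.2
    rw [← List.toFinset_card_of_nodup hd, ← Finset.card_image_of_injective _ Fin.val_injective]
    congr 1
    ext c
    simp only [Finset.mem_image, Finset.mem_filter, Finset.mem_univ, true_and, List.mem_toFinset]
    constructor
    · rintro ⟨d, hd, rfl⟩; exact (mem_fix h d).mpr hd
    · intro hc; exact ⟨nd c (hlt c hc), (mem_fix h _).mp hc, rfl⟩
  rw [← hlen h hd, ← hlen h' hd']
  refine Finset.card_equiv π fun c => ?_
  simp only [Finset.mem_filter, Finset.mem_univ, true_and]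
  rw [← hπ, ← hγ, MulAut.mul_apply, MulAut.mul_apply, MulAut.inv_def, MulEquiv.symm_apply_apply]
  exact γ.injective.eq_iff.symm

/-! ### homomorphisms from labels -/

variable {X M : Type} [DecidableEq X] [Group M]

/-- labels of a list of nodes, moved compatibly by an element of a group acting on them -/
structure Labels (X M : Type) [Group M] where
  S : List ℕ
  f : ℕ → X
  ι : M →* Equiv.Perm X
  m : ℕ → M
  faith : ∀ u v : M, (∀ d ∈ S, ι u (f d) = ι v (f d)) → u = v

/-- the check of labels on generators -/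
noncomputable def Labels.ok (P : Labels X M) (K : List ℕ) : Bool :=
  K.all fun c => listed c && P.S.all fun d =>
    walk D.T (tw c) d fun e => P.S.contains e && decide (P.f e = P.ι (P.m c) (P.f d))

/-- an element moves the labels as a group element does -/
def Labels.Moves (P : Labels X M) (g : G) (u : M) : Prop :=
  ∀ c : Fin D.n, c.val ∈ P.S → (act g c).val ∈ P.S ∧ P.f (act g c).val = P.ι u (P.f c.val)

theorem Labels.moves_tg {P : Labels X M} {K : List ℕ} (h : P.ok K = true) {c : ℕ} (hc : c ∈ K) :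
    P.Moves (tg c) (P.m c) := by
  intro d hd
  simp only [Labels.ok, Bool.and_eq_true, List.all_eq_true, walk_eq, List.contains_iff_mem,
    decide_eq_true_eq] at h
  obtain ⟨hl, h2⟩ := h c hc
  rw [act_tg hl]
  exact h2 _ hd

theorem Labels.exists_moves {P : Labels X M} {K : List ℕ} (h : P.ok K = true) {g : G}
    (hg : g ∈ genOf K) : ∃ u, P.Moves g u := by
  have hmul : ∀ {g g' : G} {u u' : M}, P.Moves g u → P.Moves g' u' → P.Moves (g * g') (u * u') := by
    intro g g' u u' h1 h2 c hc
    obtain ⟨a, b⟩ := h2 c hc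
    obtain ⟨a', b'⟩ := h1 _ a
    rw [map_mul, Equiv.Perm.mul_apply, map_mul, Equiv.Perm.mul_apply]
    exact ⟨a', by rw [b', b]⟩
  induction hg using Subgroup.closure_induction_left with
  | one => exact ⟨1, fun c hc => by simp [hc]⟩
  | mul_left x hx y _ ih =>
    obtain ⟨c, hc, rfl⟩ := hx
    obtain ⟨u, hu⟩ := ih
    exact ⟨_, hmul (Labels.moves_tg h hc) hu⟩
  | inv_mul_cancel x hx y _ ih =>
    obtain ⟨c, hc, rfl⟩ := hx
    obtain ⟨u, hu⟩ := ih
    have hl : listed c = true := by
      simp only [Labels.ok, Bool.and_eq_true, List.all_eq_true] at h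
      exact (h c hc).1
    rw [inv_eq_of_mul_eq_one_right (tg_sq hl)]
    exact ⟨_, hmul (Labels.moves_tg h hc) hu⟩

theorem Labels.moves_unique {P : Labels X M} {g : G} {u v : M} (hlt : ∀ d ∈ P.S, d < 3510)
    (hu : P.Moves g u) (hv : P.Moves g v) : u = v :=
  P.faith u v fun d hd => ((hu (nd d (hlt d hd)) hd).2.symm).trans (hv (nd d (hlt d hd)) hd).2

/-- the homomorphism of labels -/
noncomputable def Labels.hom (P : Labels X M) {K : List ℕ} (h : P.ok K = true)
    (hlt : ∀ d ∈ P.S, d < 3510) : genOf K →* M :=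
  MonoidHom.mk' (fun g => (Labels.exists_moves h g.2).choose) fun g g' => by
    refine Labels.moves_unique hlt (Labels.exists_moves h (g * g').2).choose_spec fun c hc => ?_
    obtain ⟨a, b⟩ := (Labels.exists_moves h g'.2).choose_spec c hc
    obtain ⟨a', b'⟩ := (Labels.exists_moves h g.2).choose_spec _ a
    rw [Subgroup.coe_mul, map_mul, Equiv.Perm.mul_apply, map_mul, Equiv.Perm.mul_apply]
    exact ⟨a', by rw [b', b]⟩

theorem Labels.hom_moves (P : Labels X M) {K : List ℕ} (h : P.ok K = true)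
    (hlt : ∀ d ∈ P.S, d < 3510) (g : genOf K) : P.Moves g.1 (P.hom h hlt g) :=
  (Labels.exists_moves h g.2).choose_spec

theorem Labels.hom_tg (P : Labels X M) {K : List ℕ} (h : P.ok K = true)
    (hlt : ∀ d ∈ P.S, d < 3510) {c : ℕ} (hc : c ∈ K) :
    P.hom h hlt ⟨tg c, tg_mem_genOf hc⟩ = P.m c :=
  Labels.moves_unique hlt (P.hom_moves h hlt _) (Labels.moves_tg h hc)

end Cent
end Fi22Aut
end H46
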