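import Mathlib
import Cfsg.Agent.H46.Fi22Aut.CentBase

/-!
Orders and generators of the centralisers of the three outer involutions of `Fi22`.
-/

set_option autoImplicit false
set_option maxRecDepth 100000

namespace H46
namespace Fi22Aut
namespace Cent

open H93 H93.Coset H96 H96.Fi22Out Matrix
open Fi22O7 (G gen D A act sq1 mem_A_of_fix commute_zero finite_G)
open Fi22U6 (K W SU6 hK hh hh_eq cd dec Gam Good)

/-- the elements fixed by an automorphism -/
noncomputable def fixedSub (α : MulAut G) : Subgroup G :=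
  α.toMonoidHom.eqLocus (MonoidHom.id G)

theorem mem_fixedSub {α : MulAut G} {g : G} : g ∈ fixedSub α ↔ α g = g := Iff.rfl

/-- possible images of a node under elements fixing the earlier ones -/
noncomputable def cands (S pts : List ℕ) (b : ℕ) : List ℕ :=
  S.filter fun d => pts.all fun p => !(Nat.beq d p) && (cmb p d == cmb p b)

theorem act_mem_cands {H : Subgroup G} {S : List ℕ}
    (hS : ∀ g ∈ H, ∀ c : Fin D.n, c.val ∈ S → (act g c).val ∈ S) {pts : List ℕ} {b : ℕ}
    (hb : b < 3510) (hbS : b ∈ S) (hp : ∀ p ∈ pts, listed p = true ∧ b ≠ p) {g : G}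
    (hg : g ∈ fixIn H pts) : (act g (nd b hb)).val ∈ cands S pts b := by
  rw [cands, List.mem_filter]
  refine ⟨hS g hg.1 _ hbS, List.all_eq_true.mpr fun p hp' => ?_⟩
  obtain ⟨hl, hne⟩ := hp p hp'
  have hfix := hg.2 (nd p (pw_spec hl).1) hp'
  rw [Bool.and_eq_true, Bool.not_eq_true', beq_iff_eq, cmb_act hl hfix]
  refine ⟨Bool.eq_false_iff.mpr fun e' => hne ?_, rfl⟩
  have e := Nat.eq_of_beq_eq_true e'
  exact congrArg Fin.val ((act g).injective ((Fin.ext e : act g (nd b hb) = nd p _).trans hfix.symm))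

/-- the product of the numbers of possible images along a base -/
noncomputable def upProd (S : List ℕ) : List ℕ → List ℕ → ℕ
  | _, [] => 1
  | pts, b :: bs => (cands S pts b).length * upProd S (b :: pts) bs

/-- the check of a base -/
def upOK (S : List ℕ) : List ℕ → List ℕ → Bool
  | _, [] => true
  | pts, b :: bs => Nat.blt b 3510 && S.contains b &&
      pts.all (fun p => listed p && !(Nat.beq b p)) && upOK S (b :: pts) bs

theorem card_le_up {H : Subgroup G} {S : List ℕ}
    (hS : ∀ g ∈ H, ∀ c : Fin D.n, c.val ∈ S → (act g c).val ∈ S) :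
    ∀ (bs pts : List ℕ), upOK S pts bs = true →
      Nat.card (fixIn H pts) ≤ upProd S pts bs * Nat.card (fixIn H (bs.reverse ++ pts))
  | [], pts, _ => by simp [upProd]
  | b :: bs, pts, h => by
    simp only [upOK, Bool.and_eq_true, Data.blt_iff, List.contains_iff_mem, List.all_eq_true,
      Bool.not_eq_true'] at h
    obtain ⟨⟨⟨hb, hbS⟩, hp⟩, hrest⟩ := h
    refine (step_le hb _ fun g hg => act_mem_cands hS hb hbS (fun p hp' => ⟨(hp p hp').1, ?_⟩) hg).trans ?_
    · intro e; have := (hp p hp').2; simp [e] at this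
    · rw [upProd, mul_assoc, List.reverse_cons, List.append_assoc, List.singleton_append]
      exact Nat.mul_le_mul_left _ (card_le_up hS bs (b :: pts) hrest)

/-- the product of the orbit lengths along a base -/
def geProd : List (ℕ × List ℕ × List (ℕ × ℕ × ℕ)) → ℕ
  | [] => 1
  | L :: ls => (L.2.2.length + 1) * geProd ls

/-- the check of the orbits along a base -/
noncomputable def geOK (K : List ℕ) : List ℕ → List (ℕ × List ℕ × List (ℕ × ℕ × ℕ)) → Bool
  | _, [] => true
  | pts, L :: ls => lvOK K pts L.1 L.2 && geOK K (L.1 :: pts) ls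

theorem card_ge_down {H : Subgroup G} {K : List ℕ} (hK : ∀ c ∈ K, tg c ∈ H) :
    ∀ (ls : List (ℕ × List ℕ × List (ℕ × ℕ × ℕ))) (pts : List ℕ), geOK K pts ls = true →
      geProd ls * Nat.card (fixIn H ((ls.map Prod.fst).reverse ++ pts)) ≤ Nat.card (fixIn H pts)
  | [], pts, _ => by simp [geProd]
  | L :: ls, pts, h => by
    rw [geOK, Bool.and_eq_true] at h
    refine le_trans ?_ (step_ge h.1 hK)
    rw [geProd, mul_assoc, List.map_cons, List.reverse_cons, List.append_assoc, List.singleton_append]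
    exact Nat.mul_le_mul_left _ (card_ge_down hK ls (L.1 :: pts) h.2)

/-- the later base nodes with their orbits -/
def lowList : List (ℕ × List ℕ × List (ℕ × ℕ × ℕ)) := baseL.tail.zip lows

/-- the vectors of the base -/
def bv (i : Fin 6) : W := dec (cd (baseL.getD (i.val + 1) 0))

/-- the coefficients of the unit vectors -/
def bcoef (j : Fin 6) : W := dec (coefU.getD j.val 0)

theorem bv_ok : (∀ j, (∑ i, bcoef j i • bv i) = Pi.single j 1) ∧
    (∀ e ∈ [((0 : Fin 6), (5 : Fin 6)), (1, 2), (1, 5), (3, 4), (3, 5)], hh (bv e.1) (bv e.2) ≠ 0) ∧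
    (∀ i : Fin 6, baseL.getD (i.val + 1) 0 < 3510 ∧ baseL.getD (i.val + 1) 0 ∈ baseL ∧
      cd (baseL.getD (i.val + 1) 0) ≠ 0) ∧ 0 ∈ baseL := by
  decide +kernel

/-- fixing the base leaves two elements -/
theorem eq_of_fix_base {g : G} (h : ∀ c : Fin D.n, c.val ∈ baseL → act g c = c) :
    g = 1 ∨ g = gen 0 := by
  obtain ⟨hcomb, hedges, hb, h0⟩ := bv_ok
  have hA : g ∈ A := mem_A_of_fix (h ⟨0, by decide⟩ h0)
  obtain ⟨p, hp, rfl⟩ : g ∈ Gam.map (MonoidHom.fst G SU6) := by rw [Fi22U6.gam_fst]; exact hA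
  change ∀ c : Fin D.n, c.val ∈ baseL → act p.1 c = c at h
  show p.1 = 1 ∨ p.1 = gen 0
  have hgood := Fi22U6.good_of_mem hp
  have hk : ∀ i : Fin 6, ∃ e : K, H50.suMat p.2 *ᵥ bv i = e • bv i := by
    intro i
    obtain ⟨hlt, hmem, hc⟩ := hb i
    obtain ⟨-, s, -, hs⟩ := hgood (nd _ hlt) hc
    rw [h (nd _ hlt) hmem] at hs
    exact ⟨s, hs⟩
  choose e hee using hk
  have hedge : ∀ a b, hh (bv a) (bv b) ≠ 0 → e a = e b := by
    intro a b hab
    have h1 := H50.suMat_h p.2 (bv a) (bv b)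
    rw [hee, hee, H50.h_smul_left, H50.h_smul_right hK, hh_eq, pow_two] at h1
    refine Fi22U6.scalar_pair _ _ (mul_right_cancel₀ hab ?_)
    linear_combination h1
  have e1 := hedge 0 5 (hedges (0, 5) (by simp))
  have e2 := hedge 1 2 (hedges (1, 2) (by simp))
  have e3 := hedge 1 5 (hedges (1, 5) (by simp))
  have e4 := hedge 3 4 (hedges (3, 4) (by simp))
  have e5 := hedge 3 5 (hedges (3, 5) (by simp))
  have hall : ∀ i, e i = e 5 := by
    intro i
    fin_cases i <;> simp_all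
  refine Fi22U6.eq_or_eq_of_fix hA (Fi22U6.fix_of_scalar hgood (l := e 5) ?_)
  refine Matrix.ext_of_mulVec_single fun j => ?_
  rw [smul_mulVec, one_mulVec, ← hcomb j, mulVec_sum, Finset.smul_sum]
  refine Finset.sum_congr rfl fun i _ => ?_
  rw [mulVec_smul, hee, hall, smul_comm]

theorem tg_zero : tg 0 = gen 0 := by
  rw [tg, show tw 0 = [0] by decide +kernel]
  exact one_mul _

theorem gen_zero_fix : ∀ c ∈ baseL, D.T 0 c = c := by decide +kernel

theorem card_base_ge {H : Subgroup G} (h : gen 0 ∈ H) {pts : List ℕ} (hp : ∀ c ∈ pts, c ∈ baseL) :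
    2 ≤ Nat.card (fixIn H pts) := by
  haveI := finite_G
  have h0 : gen 0 ∈ fixIn H pts := mem_fixIn.mpr ⟨h, fun c hc => Fin.ext
    ((Fi22U6.act_gen (by norm_num) c).trans (gen_zero_fix _ (hp _ hc)))⟩
  have : Nontrivial (fixIn H pts) :=
    ⟨⟨1, ⟨gen 0, h0⟩, fun e => Fi22U6.ne_one (congrArg Subtype.val e).symm⟩⟩
  exact Finite.one_lt_card

theorem card_base_le {H : Subgroup G} {pts : List ℕ} (hp : ∀ c ∈ baseL, c ∈ pts) :
    Nat.card (fixIn H pts) ≤ 2 := by
  classical
  have hsub : (fixIn H pts : Set G) ⊆ (({1, gen 0} : Finset G) : Set G) := fun g hg => by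
    simpa using eq_of_fix_base fun c hc => hg.2 c (hp _ hc)
  have h1 := Set.ncard_le_ncard hsub (Finset.finite_toSet _)
  rw [Set.ncard_coe_finset, ← Nat.card_coe_set_eq] at h1
  exact h1.trans Finset.card_le_two

theorem chk : (upOK fixF [] baseL = true ∧ upProd fixF [] baseL = 522547200 ∧
    upProd fixF [0] baseL.tail = 1451520 ∧ upProd fixF [6, 0] baseL.tail.tail = 23040) ∧
    (geOK genF [] ((0, topF) :: lowList) = true ∧ geOK genB [] ((0, topB) :: lowList) = true ∧
      geOK genA [0] lowList = true ∧ geOK genS [6, 0] lowList.tail = true ∧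
      lvOK genS [] 0 topS = true) ∧
    (geProd ((0, topF) :: lowList) = 522547200 ∧ geProd ((0, topB) :: lowList) = 174182400 ∧
      geProd lowList = 1451520 ∧ geProd lowList.tail = 23040 ∧ topS.2.length = 71) ∧
    (baseL = 0 :: 6 :: baseL.tail.tail ∧ lowList.map Prod.fst = baseL.tail) := by
  decide +kernel

theorem fix_lists : fixListOK [9] fixF = true ∧ fixListOK [0, 9] fixA = true ∧
    fixListOK [2, 0, 9] fixS = true ∧ fixF.Nodup ∧ fixA.Nodup ∧ fixS.Nodup ∧
    fixF.length = 360 ∧ fixA.length = 64 ∧ fixS.length = 72 := by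
  decide +kernel

theorem Wd_beta : Wd [9] = beta := by simp [Wd, ev, gA]

theorem Wd_tau : Wd [0, 9] = beta * MulAut.conj (gen 0) := by simp [Wd, ev, gA]

theorem Wd_tau2 : Wd [2, 0, 9] = beta * MulAut.conj (gen 0 * gen 2) := by
  simp [Wd, ev, gA, map_mul, mul_assoc]

/-- the centraliser of the first involution -/
noncomputable abbrev Cs : Subgroup G := fixedSub beta

/-- the centraliser of the third involution -/
noncomputable abbrev Cab : Subgroup G := fixedSub (Wd [2, 0, 9])

theorem Cs_pres : ∀ g ∈ Cs, ∀ c : Fin D.n, c.val ∈ fixF → (act g c).val ∈ fixF :=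
  fun _ hg _ hc => act_mem_fix fix_lists.1 (by rw [Wd_beta]; exact hg) hc

theorem Cab_pres : ∀ g ∈ Cab, ∀ c : Fin D.n, c.val ∈ fixS → (act g c).val ∈ fixS :=
  fun _ hg _ hc => act_mem_fix fix_lists.2.2.1 hg hc

theorem gens_listed : (∀ c ∈ genF, listed c = true ∧ c ∈ fixF) ∧
    (∀ c ∈ genB, listed c = true ∧ c ∈ fixF ∧ c ∈ blockB) ∧
    (∀ c ∈ genA, listed c = true ∧ c ∈ fixF ∧ c ∈ fixA ∧ cmb c 0 = true) ∧
    (∀ c ∈ genS, listed c = true ∧ c ∈ fixS) ∧ listed 0 = true ∧ listed 6 = true ∧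
    0 ∈ genF ∧ 0 ∈ genB ∧ 0 ∈ genA ∧ 0 ∈ genS := by
  decide +kernel

theorem tg_mem_fixed {w L : List ℕ} (h : fixListOK w L = true) {c : ℕ} (hc : listed c = true)
    (hm : c ∈ L) : tg c ∈ fixedSub (Wd w) := by
  rw [mem_fixedSub, tg, ev_tw hc]
  exact (mem_fix h _).mp hm

theorem tg_six : tg 6 = gen 2 := by
  rw [tg, ev_tw gens_listed.2.2.2.2.2.1, gen_Tn (g := 2) (by norm_num)]
  exact congrArg Tn (Fin.ext (show (6 : ℕ) = lf 2 by decide +kernel))

theorem Tn_zero : Tn (nd 0 (by norm_num)) = gen 0 := by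
  rw [← tg_zero, tg, ev_tw gens_listed.2.2.2.2.1]

theorem genF_le : genOf genF ≤ Cs := by
  rw [genOf, Subgroup.closure_le]
  rintro _ ⟨c, hc, rfl⟩
  rw [Cs, ← Wd_beta]
  exact tg_mem_fixed fix_lists.1 (gens_listed.1 c hc).1 (gens_listed.1 c hc).2

theorem gen0_mem_genF : gen 0 ∈ genOf genF := tg_zero ▸ tg_mem_genOf gens_listed.2.2.2.2.2.2.1

theorem card_fix_Cs {H : Subgroup G} (hH : H ≤ Cs) (bs pts : List ℕ) (h : upOK fixF pts bs = true)
    (hall : ∀ c ∈ baseL, c ∈ bs.reverse ++ pts) :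
    Nat.card (fixIn H pts) ≤ upProd fixF pts bs * 2 :=
  (card_le_up (fun g hg => Cs_pres g (hH hg)) bs pts h).trans
    (Nat.mul_le_mul_left _ (card_base_le hall))

theorem Cs_facts : genOf genF = Cs ∧ Nat.card Cs = 1045094400 := by
  haveI := finite_G
  obtain ⟨⟨hu, hup, -⟩, ⟨hg, -⟩, ⟨hgp, -⟩, -, hfst⟩ := chk
  have h1 := card_fix_Cs le_rfl baseL [] hu (fun c hc => by simpa using hc)
  rw [fixIn_nil, hup] at h1
  have h2 := card_ge_down (H := genOf genF) (fun c hc => tg_mem_genOf hc) _ [] hg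
  rw [fixIn_nil, hgp] at h2
  have h3 : 2 ≤ Nat.card (fixIn (genOf genF) ((((0, topF) :: lowList).map Prod.fst).reverse ++ [])) :=
    card_base_ge gen0_mem_genF (by rw [List.map_cons, hfst]; decide +kernel)
  have h4 : 1045094400 ≤ Nat.card (genOf genF) :=
    le_trans (le_trans (by norm_num) (Nat.mul_le_mul_left 522547200 h3)) h2
  have h5 := Subgroup.card_le_of_le genF_le
  exact ⟨Subgroup.eq_of_le_of_card_ge genF_le (le_trans h1 (le_trans (by norm_num) h4)), by omega⟩

theorem upOK_tails : upOK fixF [0] baseL.tail = true ∧ upOK fixF [6, 0] baseL.tail.tail = true := by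
  decide +kernel

theorem genA_le : genOf genA ≤ fixIn Cs [0] := by
  rw [genOf, Subgroup.closure_le]
  rintro _ ⟨c, hc, rfl⟩
  obtain ⟨hl, hF, -, hcm⟩ := gens_listed.2.2.1 c hc
  refine mem_fixIn.mpr ⟨?_, fun d hd => Fin.ext ?_⟩
  · rw [Cs, ← Wd_beta]; exact tg_mem_fixed fix_lists.1 hl hF
  · rw [List.mem_singleton] at hd
    rw [act_tg hl, hd]
    simpa [cmb] using hcm

theorem Csa_facts : genOf genA = fixIn Cs [0] ∧ Nat.card (fixIn Cs [0]) = 2903040 := by
  haveI := finite_G
  obtain ⟨⟨-, -, hup, -⟩, ⟨-, -, hg, -⟩, ⟨-, -, hgp, -⟩, hbase, hfst⟩ := chk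
  have h1 := card_fix_Cs (H := Cs) le_rfl baseL.tail [0] upOK_tails.1 (by decide +kernel)
  rw [hup] at h1
  have h2 := card_ge_down (H := genOf genA) (fun c hc => tg_mem_genOf hc) _ [0] hg
  rw [hgp] at h2
  have h3 : 2 ≤ Nat.card (fixIn (genOf genA) ((lowList.map Prod.fst).reverse ++ [0])) :=
    card_base_ge (tg_zero ▸ tg_mem_genOf gens_listed.2.2.2.2.2.2.2.2.1) (by rw [hfst]; decide +kernel)
  have h4 : 2903040 ≤ Nat.card (fixIn (genOf genA) [0]) :=
    le_trans (le_trans (by norm_num) (Nat.mul_le_mul_left 1451520 h3)) h2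
  have h5 := Subgroup.card_le_of_le genA_le
  have h6 : Nat.card (fixIn (genOf genA) [0]) ≤ Nat.card (genOf genA) := Subgroup.card_le_of_le inf_le_left
  exact ⟨Subgroup.eq_of_le_of_card_ge genA_le (by omega), by omega⟩

/-- the check that a node is recognised among fixed nodes by commutation -/
noncomputable def keepOK (L pts W : List ℕ) (b : ℕ) : Bool :=
  L.contains b && listed b && pts.all (fun p => listed p && L.contains p && cmb p b) &&
  W.all (fun e => listed e && L.contains e && !(Nat.beq e b) && !(pts.contains e) &&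
    pts.all fun p => cmb p e) &&
  L.all fun d => Nat.beq d b || pts.contains d ||
    (!(pts.all fun p => cmb p d) || (W.any (fun e => !(cmb e d)) && cmb b d))

/-- a node recognised by commutation is kept -/
theorem keep_node {w L pts W : List ℕ} {b : ℕ} (h : fixListOK w L = true)
    (hk : keepOK L pts W b = true) {g : G} (hg : Wd w g = g)
    (hfix : ∀ c : Fin D.n, c.val ∈ pts → act g c = c) {hb : b < 3510} :
    act g (nd b hb) = nd b hb := by
  simp only [keepOK, Bool.and_eq_true, List.all_eq_true, Bool.or_eq_true, Bool.not_eq_true',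
    List.contains_iff_mem, Nat.beq_eq, List.any_eq_true] at hk
  obtain ⟨⟨⟨⟨hbL, hbl⟩, hp⟩, hW⟩, hL⟩ := hk
  have hpL : ∀ d : ℕ, pts.contains d = true ↔ d ∈ pts := fun d => List.contains_iff_mem
  set v := act g (nd b hb) with hv
  have hvL : v.val ∈ L := act_mem_fix h hg (c := nd b hb) hbL
  by_contra hne
  have hvp : v.val ∉ pts := fun hm => hne ((act g).injective (hfix _ hm))
  have hcom : ∀ p ∈ pts, cmb p v.val = true := fun p hp' => by
    obtain ⟨⟨hl, -⟩, hc⟩ := hp p hp'
    rw [hv, cmb_act hl (hfix (nd p (pw_spec hl).1) hp')]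
    exact hc
  rcases hL _ hvL with (h1 | h1) | (h1 | ⟨⟨e, he, hce⟩, -⟩)
  · exact hne (Fin.ext h1)
  · exact hvp h1
  · rw [Bool.eq_false_iff] at h1
    exact h1 (List.all_eq_true.mpr hcom)
  obtain ⟨⟨⟨⟨hl, heL⟩, heb⟩, hep⟩, hec⟩ := hW e he
  set q : Fin D.n := nd e (pw_spec hl).1 with hq
  set q' := act g⁻¹ q with hq'
  have hgq : act g q' = q := by
    rw [hq', ← Equiv.Perm.mul_apply, ← map_mul, mul_inv_cancel, map_one]; rfl
  have hinv : Wd w g⁻¹ = g⁻¹ := by rw [map_inv, hg]
  have hq'L : q'.val ∈ L := act_mem_fix h hinv (c := q) heL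
  have hq'p : q'.val ∉ pts := fun hm => by
    have h2 := hfix q' hm
    rw [hgq] at h2
    rw [← h2] at hm
    have h4 : pts.contains e = true := (hpL e).mpr hm
    rw [hep] at h4
    exact Bool.false_ne_true h4
  have hq'b : q'.val ≠ b := fun hm => by
    have h2 : v = q := by rw [hv, ← hgq]; exact congrArg _ (Fin.ext hm.symm)
    rw [h2, (cmb_iff hl q).mpr (Commute.refl _)] at hce
    exact absurd hce (by simp)
  rcases hL _ hq'L with (h1 | h1) | (h1 | ⟨-, h2⟩)
  · exact hq'b h1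
  · exact hq'p h1
  · rw [Bool.eq_false_iff] at h1
    refine h1 (List.all_eq_true.mpr fun p hp' => ?_)
    obtain ⟨⟨hl', -⟩, -⟩ := hp p hp'
    rw [← cmb_act hl' (hfix (nd p (pw_spec hl').1) hp') q', hgq]
    exact hec p hp'
  have h3 := ((cmb_iff hbl q').mp h2).map (MulAut.conj g).toMonoidHom
  change Commute (MulAut.conj g (Tn _)) (MulAut.conj g (Tn q')) at h3
  rw [conj_Tn, conj_Tn, hgq] at h3
  rw [(cmb_iff hl v).mpr h3.symm] at hce
  exact absurd hce (by simp)

theorem keep_ok : keepOK fixA [] witA 0 = true ∧ keepOK fixS [0] witS 6 = true ∧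
    (0 : ℕ) ∈ fixS ∧ lvOK genS [] 0 topS = true := by
  decide +kernel

/-- the centraliser of the second involution -/
theorem tau_fixed_iff (g : G) : (beta * MulAut.conj (gen 0)) g = g ↔
    g ∈ Cs ⊓ Subgroup.centralizer ({gen 0} : Set G) := by
  rw [Subgroup.mem_inf, Subgroup.mem_centralizer_singleton_iff, mem_fixedSub]
  constructor
  · intro hg
    have h0 : act g (nd 0 (by norm_num)) = nd 0 (by norm_num) :=
      keep_node fix_lists.2.1 keep_ok.1 (by rw [Wd_tau]; exact hg) (fun c hc => absurd hc List.not_mem_nil)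
    have hc : Commute (gen 0) g := commute_zero (mem_A_of_fix h0)
    rw [MulAut.mul_apply, MulAut.conj_apply, hc.eq, mul_inv_cancel_right] at hg
    exact ⟨hg, hc.eq.symm⟩
  · rintro ⟨h1, h2⟩
    rw [MulAut.mul_apply, MulAut.conj_apply, ← h2, mul_inv_cancel_right, h1]

theorem mem_fix_zero {g : G} : g ∈ Subgroup.centralizer ({gen 0} : Set G) ↔
    ∀ c : Fin D.n, c.val ∈ [0] → act g c = c := by
  rw [Fi22Class.centralizer_eq]
  constructor
  · intro hg c hc
    rw [List.mem_singleton] at hc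
    obtain rfl : c = z0 := Fin.ext hc
    exact act_z0_eq_iff.mpr hg
  · intro h
    exact mem_A_of_fix (h ⟨0, by decide⟩ (List.mem_singleton.mpr rfl))

theorem inf_eq_fixIn : Cs ⊓ Subgroup.centralizer ({gen 0} : Set G) = fixIn Cs [0] :=
  SetLike.ext fun _ => by rw [Subgroup.mem_inf, mem_fix_zero, mem_fixIn]

theorem fixIn_Cab : fixIn Cab [0] = fixIn Cs [6, 0] := by
  ext g
  rw [mem_fixIn, mem_fixIn]
  have key : (∀ c : Fin D.n, c.val ∈ [6, 0] → act g c = c) →
      MulAut.conj (gen 0 * gen 2) g = g := by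
    intro h
    have h0 : Commute (gen 0) g := commute_zero (mem_A_of_fix (h ⟨0, by decide⟩ (by simp)))
    have h6 : Commute (gen 2) g := by
      rw [← tg_six, tg, ev_tw gens_listed.2.2.2.2.2.1, commute_iff_eq]
      have e := conj_Tn g (nd 6 (by norm_num))
      rw [h (nd 6 (by norm_num)) (by simp [nd]), MulAut.conj_apply, mul_inv_eq_iff_eq_mul] at e
      exact e.symm
    rw [MulAut.conj_apply, (h0.mul_left h6).eq, mul_inv_cancel_right]
  constructor
  · rintro ⟨hg, hfix⟩
    rw [mem_fixedSub] at hg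
    have h6 : act g (nd 6 (by norm_num)) = nd 6 (by norm_num) :=
      keep_node fix_lists.2.2.1 keep_ok.2.1 hg hfix
    have hall : ∀ c : Fin D.n, c.val ∈ [6, 0] → act g c = c := by
      intro c hc
      rcases List.mem_cons.mp hc with hc | hc
      · obtain rfl : c = nd 6 (by norm_num) := Fin.ext hc
        exact h6
      · exact hfix c hc
    refine ⟨?_, hall⟩
    rw [Wd_tau2, MulAut.mul_apply, key hall] at hg
    exact hg
  · rintro ⟨hg, hfix⟩
    refine ⟨?_, fun c hc => hfix c (List.mem_cons_of_mem _ hc)⟩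
    rw [mem_fixedSub, Wd_tau2, MulAut.mul_apply, key hfix]
    exact hg

theorem Cab_facts : genOf genS = Cab ∧ Nat.card Cab = 3317760 ∧ Nat.card (fixIn Cs [6, 0]) = 46080 := by
  haveI := finite_G
  obtain ⟨⟨-, -, -, hup⟩, ⟨-, -, -, hg, hlv⟩, ⟨-, -, -, hgp, hlen⟩, hbase, hfst⟩ := chk
  have hle : genOf genS ≤ Cab := by
    rw [genOf, Subgroup.closure_le]
    rintro _ ⟨c, hc, rfl⟩
    exact tg_mem_fixed fix_lists.2.2.1 (gens_listed.2.2.2.1 c hc).1 (gens_listed.2.2.2.1 c hc).2
  have h1 := card_fix_Cs (H := Cs) le_rfl baseL.tail.tail [6, 0] upOK_tails.2 (by decide +kernel)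
  rw [hup] at h1
  have h2 := card_ge_down (H := genOf genS) (fun c hc => tg_mem_genOf hc) _ [6, 0] hg
  rw [hgp] at h2
  have h3 : 2 ≤ Nat.card (fixIn (genOf genS) ((lowList.tail.map Prod.fst).reverse ++ [6, 0])) :=
    card_base_ge (tg_zero ▸ tg_mem_genOf gens_listed.2.2.2.2.2.2.2.2.2)
      (by rw [List.map_tail, hfst]; decide +kernel)
  have h4 : 46080 ≤ Nat.card (fixIn (genOf genS) [6, 0]) :=
    le_trans (le_trans (by norm_num) (Nat.mul_le_mul_left 23040 h3)) h2
  have h5 : fixIn (genOf genS) [6, 0] ≤ fixIn (genOf genS) [0] :=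
    fun g hg' => mem_fixIn.mpr ⟨hg'.1, fun c hc => hg'.2 c (List.mem_cons_of_mem _ hc)⟩
  have h6 := Subgroup.card_le_of_le h5
  have h7 := Subgroup.card_le_of_le (fixIn_mono hle [0])
  rw [fixIn_Cab] at h7
  have h8 := step_ge (H := genOf genS) hlv (fun c hc => tg_mem_genOf hc)
  rw [fixIn_nil, hlen] at h8
  have h9 := step_le (H := Cab) (pts := []) (b := 0) (by norm_num) fixS
    (fun g hg' => Cab_pres g hg'.1 _ keep_ok.2.2.1)
  rw [fixIn_nil, fix_lists.2.2.2.2.2.2.2.2, fixIn_Cab] at h9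
  have h10 := Subgroup.card_le_of_le hle
  exact ⟨Subgroup.eq_of_le_of_card_ge hle (by omega), by omega, by omega⟩

end Cent
end Fi22Aut
end H46
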