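import Mathlib
import Cfsg.Prelude.Def_Classical
import Cfsg.Agent.H46.Fi22Aut.CentChain

/-!
Labels of nodes by vectors over the field with two elements.
-/

set_option autoImplicit false
set_option maxRecDepth 100000

namespace H46
namespace Fi22Aut
namespace Cent

open H93 H93.Coset H96 H96.Fi22Out Matrix
open Fi22O7 (G gen D A act sq1 mem_A_of_fix commute_zero finite_G)

variable {ι : Type} [Fintype ι] [DecidableEq ι]

/-- a bit as an element of the field with two elements -/
def bitV (n i : ℕ) : ZMod 2 := bif Nat.testBit n i then 1 else 0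

/-- invertible matrices as permutations of vectors -/
def glPerm : Matrix.GeneralLinearGroup ι (ZMod 2) →* Equiv.Perm (ι → ZMod 2) where
  toFun g :=
    { toFun := fun x => (g : Matrix ι ι (ZMod 2)) *ᵥ x
      invFun := fun x => ((g⁻¹ : Matrix.GeneralLinearGroup ι (ZMod 2)) : Matrix ι ι (ZMod 2)) *ᵥ x
      left_inv := fun x => by simp only []; rw [mulVec_mulVec, ← Units.val_mul, inv_mul_cancel, Units.val_one, one_mulVec]
      right_inv := fun x => by simp only []; rw [mulVec_mulVec, ← Units.val_mul, mul_inv_cancel, Units.val_one, one_mulVec] }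
  map_one' := Equiv.ext fun x => by simp
  map_mul' g h := Equiv.ext fun x => by simp [mulVec_mulVec]

theorem glPerm_apply (g : Matrix.GeneralLinearGroup ι (ZMod 2)) (x : ι → ZMod 2) :
    glPerm g x = (g : Matrix ι ι (ZMod 2)) *ᵥ x := rfl

/-- the matrix of a transvection with given axis functional -/
def transMat (w : (ι → ZMod 2) → ι → ZMod 2) (v : ι → ZMod 2) : Matrix ι ι (ZMod 2) :=
  1 + vecMulVec v (w v)

/-- the map of the transvection -/
def transFun (w : (ι → ZMod 2) → ι → ZMod 2) (v x : ι → ZMod 2) : ι → ZMod 2 :=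
  x + (w v ⬝ᵥ x) • v

theorem transMat_mulVec (w : (ι → ZMod 2) → ι → ZMod 2) (v x : ι → ZMod 2) :
    transMat w v *ᵥ x = transFun w v x := by
  rw [transMat, transFun, add_mulVec, one_mulVec, vecMulVec_mulVec]
  simp

theorem transMat_sq {w : (ι → ZMod 2) → ι → ZMod 2} {v : ι → ZMod 2} (h : w v ⬝ᵥ v = 0) :
    transMat w v * transMat w v = 1 := by
  refine Matrix.ext_of_mulVec_single fun j => ?_
  rw [← mulVec_mulVec, transMat_mulVec, transMat_mulVec, one_mulVec]
  simp only [transFun, dotProduct_add, dotProduct_smul, h, smul_zero, add_zero]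
  rw [add_assoc, ← add_smul, CharTwo.add_self_eq_zero, zero_smul, add_zero]

/-- the transvection as an invertible matrix -/
def transGL (w : (ι → ZMod 2) → ι → ZMod 2) (v : ι → ZMod 2) (h : w v ⬝ᵥ v = 0) :
    Matrix.GeneralLinearGroup ι (ZMod 2) :=
  ⟨transMat w v, transMat w v, transMat_sq h, transMat_sq h⟩

theorem mem_isometry {Q : (ι → ZMod 2) → ZMod 2} {g : Matrix.GeneralLinearGroup ι (ZMod 2)}
    (h : ∀ x, Q ((g : Matrix ι ι (ZMod 2)) *ᵥ x) = Q x) : g ∈ Cfsg.isometryGroup (ZMod 2) Q :=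
  fun u _ => h u

/-- the reflection of a vector, or 1 -/
noncomputable def refl (Q : (ι → ZMod 2) → ZMod 2) (w : (ι → ZMod 2) → ι → ZMod 2)
    (v : ι → ZMod 2) : Cfsg.isometryGroup (ZMod 2) Q := by
  classical
  exact if h : w v ⬝ᵥ v = 0 ∧ ∀ x, Q (transFun w v x) = Q x then
    ⟨transGL w v h.1, mem_isometry fun x => (congrArg Q (transMat_mulVec w v x)).trans (h.2 x)⟩ else 1

theorem refl_apply {Q : (ι → ZMod 2) → ZMod 2} {w : (ι → ZMod 2) → ι → ZMod 2} {v : ι → ZMod 2}
    (h : w v ⬝ᵥ v = 0 ∧ ∀ x, Q (transFun w v x) = Q x) (x : ι → ZMod 2) :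
    glPerm (refl Q w v).1 x = transFun w v x := by
  rw [refl, dif_pos h]
  exact transMat_mulVec w v x

/-- the check of labels by a computable map -/
noncomputable def okBy {X : Type} [DecidableEq X] (S : List ℕ) (f : ℕ → X) (rf : ℕ → X → X)
    (K : List ℕ) : Bool :=
  K.all fun c => listed c && S.all fun d =>
    walk D.T (tw c) d fun e => S.contains e && decide (f e = rf c (f d))

theorem Labels.ok_of {X M : Type} [DecidableEq X] [Group M] (P : Labels X M) {K : List ℕ}
    {rf : ℕ → X → X} (h : okBy P.S P.f rf K = true) (hm : ∀ c ∈ K, ∀ x, P.ι (P.m c) x = rf c x) :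
    P.ok K = true := by
  simp only [okBy, Labels.ok, Bool.and_eq_true, List.all_eq_true, walk_eq,
    decide_eq_true_eq] at h ⊢
  intro c hc
  obtain ⟨h1, h2⟩ := h c hc
  refine ⟨h1, fun d hd => ?_⟩
  rw [hm c hc]
  exact h2 d hd

/-- isometries agreeing on vectors spanning all units are equal -/
theorem iso_faith {Q : (ι → ZMod 2) → ZMod 2} {S : List ℕ} {f : ℕ → ι → ZMod 2}
    (hu : ∀ i, ∃ a ∈ S, ∃ b ∈ S, f a + f b = Pi.single i 1) (u v : Cfsg.isometryGroup (ZMod 2) Q)
    (h : ∀ d ∈ S, glPerm u.1 (f d) = glPerm v.1 (f d)) : u = v := by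
  refine Subtype.ext (Units.ext (Matrix.ext_of_mulVec_single fun i => ?_))
  obtain ⟨a, ha, b, hb, e⟩ := hu i
  rw [← e, mulVec_add, mulVec_add, ← glPerm_apply, ← glPerm_apply, ← glPerm_apply, ← glPerm_apply,
    h a ha, h b hb]

/-- labels by vectors, moved by reflections -/
noncomputable def isoLabels (Q : (ι → ZMod 2) → ZMod 2) (w : (ι → ZMod 2) → ι → ZMod 2)
    (S : List ℕ) (f : ℕ → ι → ZMod 2) (hu : ∀ i, ∃ a ∈ S, ∃ b ∈ S, f a + f b = Pi.single i 1) :
    Labels (ι → ZMod 2) (Cfsg.isometryGroup (ZMod 2) Q) where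
  S := S
  f := f
  ι := glPerm.comp (Cfsg.isometryGroup (ZMod 2) Q).subtype
  m c := refl Q w (f c)
  faith := iso_faith hu

theorem isoLabels_ok {Q : (ι → ZMod 2) → ZMod 2} {w : (ι → ZMod 2) → ι → ZMod 2}
    {S : List ℕ} {f : ℕ → ι → ZMod 2} {hu : ∀ i, ∃ a ∈ S, ∃ b ∈ S, f a + f b = Pi.single i 1}
    {K : List ℕ} (hQ : ∀ c ∈ K, w (f c) ⬝ᵥ f c = 0 ∧ ∀ x, Q (transFun w (f c) x) = Q x)
    (h : okBy S f (fun c x => transFun w (f c) x) K = true) :
    (isoLabels Q w S f hu).ok K = true :=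
  Labels.ok_of _ h fun c hc x => refl_apply (hQ c hc) x

theorem Labels.hom_ne_one {X M : Type} [DecidableEq X] [Group M] (P : Labels X M) {K : List ℕ}
    (h : P.ok K = true) (hlt : ∀ d ∈ P.S, d < 3510) {c : ℕ} (hc : c ∈ K) {d : ℕ} (hd : d ∈ P.S)
    (hne : P.f (pathEnd D.T (tw c) d) ≠ P.f d) : P.hom h hlt ⟨tg c, tg_mem_genOf hc⟩ ≠ 1 := by
  intro e
  have h1 := P.hom_moves h hlt ⟨tg c, tg_mem_genOf hc⟩
  rw [e] at h1
  have h2 := (h1 (nd d (hlt d hd)) hd).2
  simp only [map_one, Equiv.Perm.one_apply] at h2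
  refine hne ?_
  have hl : listed c = true := by
    simp only [Labels.ok, Bool.and_eq_true, List.all_eq_true] at h
    exact (h c hc).1
  rw [act_tg hl] at h2
  exact h2

end Cent
end Fi22Aut
end H46
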