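import Mathlib
import Cfsg.Prelude.Def_Transfer
import Cfsg.Prelude.Def_Solvable
import Cfsg.Agent.CompBasic
import Cfsg.Agent.H20.AutPSU4Two
import Cfsg.Agent.H43.Simple
import Cfsg.Agent.H46.Fi22Aut.CentForms

/-!
The centraliser of the third outer involution of `Fi22` is `2⁶ : O⁻₆(2)`.
-/

set_option autoImplicit false
set_option maxRecDepth 100000

namespace H46
namespace Fi22Aut
namespace Cent

open H93 H93.Coset H96 H96.Fi22Out Matrix
open Fi22O7 (G gen D A act sq1 mem_A_of_fix commute_zero finite_G)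
open Cfsg.Comp (le_pCore pCore_isPGroup)

/-- the vectors of the elliptic form -/
abbrev VS : Type := (Fin 2 ⊕ Fin 2) ⊕ Fin 2 → ZMod 2

/-- its isometry group -/
abbrev OS : Type := ↥(Cfsg.isometryGroup (ZMod 2) H20.AutPSU4.form)

/-- the code position of a coordinate -/
def posS (i : (Fin 2 ⊕ Fin 2) ⊕ Fin 2) : ℕ :=
  Sum.elim (fun j => Sum.elim (fun a => a.val) (fun a => 2 + a.val) j) (fun a => 4 + a.val) i

/-- the vector of the pair of a node -/
def fS (c : ℕ) : VS := fun i => bitV (vecS.getD (fixS.idxOf c) 0) (posS i)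

/-- the polar functional -/
def polS (v : VS) : VS := fun i =>
  Sum.elim (fun j => v (.inl j.swap)) (fun a => v (.inr (1 - a))) i

theorem unitS_ok : (∀ i : (Fin 2 ⊕ Fin 2) ⊕ Fin 2,
    (unitS.getD (posS i) (0, 0)).1 ∈ fixS ∧ (unitS.getD (posS i) (0, 0)).2 ∈ fixS ∧
    fS (unitS.getD (posS i) (0, 0)).1 + fS (unitS.getD (posS i) (0, 0)).2 = Pi.single i 1) ∧
    (∀ c ∈ fixS, c < 3510) ∧ (∃ d ∈ fixS, fS (pathEnd D.T (tw 0) d) ≠ fS d) ∧ 0 ∈ genS := by
  decide +kernel

/-- the labels by the pairs -/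
noncomputable def PS : Labels VS OS :=
  isoLabels H20.AutPSU4.form polS fixS fS fun i =>
    ⟨_, (unitS_ok.1 i).1, _, (unitS_ok.1 i).2.1, (unitS_ok.1 i).2.2⟩

theorem reflS_ok : ∀ c ∈ genS, polS (fS c) ⬝ᵥ fS c = 0 ∧
    ∀ x, H20.AutPSU4.form (transFun polS (fS c) x) = H20.AutPSU4.form x := by
  decide +kernel

theorem okS : PS.ok genS = true :=
  isoLabels_ok reflS_ok (by decide +kernel)

/-- the map to the orthogonal group -/
noncomputable def psiS : genOf genS →* OS := PS.hom okS unitS_ok.2.1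

/-- the kernel as a subgroup of the whole group -/
noncomputable def KerS : Subgroup G := psiS.ker.map (genOf genS).subtype

theorem KerS_le : KerS ≤ genOf genS := by
  rintro _ ⟨x, -, rfl⟩
  exact x.2

theorem KerS_fibre {g : G} (hg : g ∈ KerS) {c : Fin D.n} (hc : c.val ∈ fixS) :
    (act g c).val ∈ fixS ∧ fS (act g c).val = fS c.val := by
  obtain ⟨x, hx, rfl⟩ := hg
  have h := PS.hom_moves okS unitS_ok.2.1 x
  rw [show PS.hom okS unitS_ok.2.1 x = 1 from hx] at h
  obtain ⟨h1, h2⟩ := h c hc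
  refine ⟨h1, ?_⟩
  simp only [map_one, Equiv.Perm.one_apply] at h2
  exact h2

/-- the fibre of a node -/
noncomputable def fibre (b : ℕ) : List ℕ := fixS.filter fun d => decide (fS d = fS b)

theorem fibre_step {pts : List ℕ} {b : ℕ} (hb : b ∈ fixS) :
    Nat.card (fixIn KerS pts) ≤ (fibre b).length * Nat.card (fixIn KerS (b :: pts)) :=
  step_le (unitS_ok.2.1 b hb) _ fun g hg => by
    obtain ⟨h1, h2⟩ := KerS_fibre hg.1 (c := nd b (unitS_ok.2.1 b hb)) hb
    exact List.mem_filter.mpr ⟨h1, decide_eq_true h2⟩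

theorem fibre_ok : (fibre 0).length = 2 ∧ (∀ b ∈ [392, 434, 369, 430], b ∈ fixS ∧ (fibre b).length = 2) ∧
    upOK fixF [430, 369, 434, 392, 6, 0] [272] = true ∧
    upProd fixF [430, 369, 434, 392, 6, 0] [272] = 2 ∧
    (∀ c ∈ baseL, c ∈ [272, 430, 369, 434, 392, 6, 0]) ∧ (0 : ℕ) ∈ fixS := by
  decide +kernel

theorem card_KerS_le : Nat.card KerS ≤ 64 := by
  haveI := finite_G
  obtain ⟨h0, hb, hu, hup, hbase, h0S⟩ := fibre_ok
  have hle : KerS ≤ Cab := KerS_le.trans Cab_facts.1.le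
  have h6 : fixIn KerS [0] ≤ fixIn KerS [6, 0] := fun g hg => by
    have h : g ∈ fixIn Cab [0] := ⟨hle hg.1, hg.2⟩
    rw [fixIn_Cab] at h
    exact ⟨hg.1, h.2⟩
  have hlast : Nat.card (fixIn KerS [272, 430, 369, 434, 392, 6, 0]) ≤ 1 := by
    rw [Finite.card_le_one_iff_subsingleton]
    refine ⟨fun a b => ?_⟩
    have key : ∀ g ∈ fixIn KerS [272, 430, 369, 434, 392, 6, 0], g = 1 := by
      intro g hg
      refine (eq_of_fix_base fun c hc => hg.2 c (hbase _ hc)).resolve_right fun e => ?_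
      subst e
      obtain ⟨x, hx, hx'⟩ := hg.1
      obtain ⟨-, -, ⟨d, hd, hne⟩, h0g⟩ := unitS_ok
      refine PS.hom_ne_one okS unitS_ok.2.1 h0g hd hne ?_
      have e : x = ⟨tg 0, tg_mem_genOf h0g⟩ := Subtype.ext (hx'.trans tg_zero.symm)
      rw [← e]
      exact hx
    exact Subtype.ext ((key a.1 a.2).trans (key b.1 b.2).symm)
  have hCs : Nat.card (fixIn KerS [430, 369, 434, 392, 6, 0]) ≤
      2 * Nat.card (fixIn KerS [272, 430, 369, 434, 392, 6, 0]) := by
    have h := card_le_up (H := fixIn KerS [6, 0]) (S := fixF) (fun g hg c hc => by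
      have h : g ∈ fixIn Cab [0] :=
        ⟨hle hg.1, fun c hc => hg.2 c (List.mem_cons_of_mem _ hc)⟩
      rw [fixIn_Cab] at h
      exact Cs_pres g h.1 c hc) [272] [430, 369, 434, 392, 6, 0] hu
    rw [hup] at h
    have e : ∀ pts : List ℕ, (∀ c ∈ [6, 0], c ∈ pts) → fixIn (fixIn KerS [6, 0]) pts = fixIn KerS pts :=
      fun pts hp => le_antisymm (fun g hg => ⟨hg.1.1, hg.2⟩)
        fun g hg => ⟨⟨hg.1, fun c hc => hg.2 c (hp _ hc)⟩, hg.2⟩
    rw [e _ (by simp), e _ (by simp)] at h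
    simpa using h
  have h1 := fibre_step (pts := []) h0S
  rw [fixIn_nil, h0] at h1
  have h2 := Subgroup.card_le_of_le h6
  have a1 := fibre_step (pts := [6, 0]) (hb 392 (by simp)).1
  have a2 := fibre_step (pts := [392, 6, 0]) (hb 434 (by simp)).1
  have a3 := fibre_step (pts := [434, 392, 6, 0]) (hb 369 (by simp)).1
  have a4 := fibre_step (pts := [369, 434, 392, 6, 0]) (hb 430 (by simp)).1
  rw [(hb 392 (by simp)).2] at a1
  rw [(hb 434 (by simp)).2] at a2
  rw [(hb 369 (by simp)).2] at a3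
  rw [(hb 430 (by simp)).2] at a4
  omega

theorem card_genS : Nat.card (genOf genS) = 3317760 :=
  (congrArg (fun S : Subgroup G => Nat.card S) Cab_facts.1).trans Cab_facts.2.1

theorem psiS_facts : Function.Surjective psiS ∧ Nat.card KerS = 64 := by
  haveI := finite_G
  haveI : Finite OS := Nat.finite_of_card_ne_zero (by rw [H20.AutPSU4.card_orth]; norm_num)
  have hk : Nat.card KerS = Nat.card psiS.ker :=
    (Nat.card_congr (psiS.ker.equivMapOfInjective _ (genOf genS).subtype_injective).toEquiv).symm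
  have h1 := Subgroup.card_mul_index psiS.ker
  rw [Subgroup.index_ker, card_genS, ← hk] at h1
  have h2 : Nat.card psiS.range ≤ 51840 := by
    rw [← H20.AutPSU4.card_orth]
    exact Subgroup.card_le_card_group psiS.range
  have h3 := card_KerS_le
  have h4 : 51840 ≤ Nat.card psiS.range := by
    by_contra hlt
    push Not at hlt
    have := Nat.mul_le_mul h3 (Nat.le_of_lt_succ (show Nat.card psiS.range < 51839 + 1 by omega))
    omega
  have h5 : Nat.card psiS.range = 51840 := le_antisymm h2 h4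
  refine ⟨MonoidHom.range_eq_top.mp (Subgroup.eq_top_of_le_card _ (by rw [h5, H20.AutPSU4.card_orth])), ?_⟩
  rw [h5] at h1
  exact Nat.eq_of_mul_eq_mul_right (by norm_num : 0 < 51840) (h1.trans (by norm_num))

/-- the word of a product of generators of the kernel -/
def kw (m : List Bool) : List ℕ :=
  ((kerGens.zip m).filter fun q => q.2).flatMap fun q => tw q.1.2 ++ tw q.1.1

/-- the word of a pair -/
def pairW (q : ℕ × ℕ) : List ℕ := tw q.2 ++ tw q.1

/-- all subsets of the six generators -/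
def masks : List (List Bool) :=
  (List.range 64).map fun n => (List.range 6).map fun i => Nat.testBit n i

/-- two images identifying an element of the kernel -/
noncomputable def sigK (m : List Bool) : ℕ × ℕ :=
  (pathEnd D.T (kw m) 0, pathEnd D.T (kw m) 16)

theorem ker_nodup : (masks.map sigK).Nodup := by decide +kernel

theorem ker_len : masks.length = 64 := by decide +kernel

theorem ker_data : (∀ q ∈ kerGens, listed q.1 = true ∧ listed q.2 = true ∧ q.1 ∈ fixS ∧ q.2 ∈ fixS ∧
      (∀ d ∈ fixS, pathEnd D.T (pairW q) d ∈ fixS ∧ fS (pathEnd D.T (pairW q) d) = fS d) ∧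
      (pairW q).all (fun g => Nat.blt g 9) = true ∧ sameW (pairW q ++ pairW q) [] = true) ∧
    (∀ q ∈ kerGens, ∀ r ∈ kerGens, sameW (pairW q ++ pairW r) (pairW r ++ pairW q) = true) := by
  decide +kernel

theorem ev_eq {u v : List ℕ} (hu : ∀ g ∈ u, g < 9) (hv : ∀ g ∈ v, g < 9) (h : sameW u v = true) :
    ev gen u = ev gen v :=
  conj_inj (by rw [← Wd_eq_conj u hu, ← Wd_eq_conj v hv]; exact Wd_eq h)

/-- the subgroup of the pair products -/
noncomputable def pairSub : Subgroup G :=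
  Subgroup.closure {x | ∃ q ∈ kerGens, ev gen (pairW q) = x}

theorem pairW_lt {q : ℕ × ℕ} (hq : q ∈ kerGens) : ∀ g ∈ pairW q, g < 9 := by
  have h := (ker_data.1 q hq).2.2.2.2.2.1
  simpa [List.all_eq_true, Data.blt_iff] using h

theorem pairSub_le : pairSub ≤ KerS := by
  rw [pairSub, Subgroup.closure_le]
  rintro _ ⟨q, hq, rfl⟩
  obtain ⟨hl1, hl2, hS1, hS2, hmv, -⟩ := ker_data.1 q hq
  have hm : ∀ {c : ℕ}, listed c = true → c ∈ fixS → tg c ∈ genOf genS := fun hl hS => by
    rw [Cab_facts.1]; exact tg_mem_fixed fix_lists.2.2.1 hl hS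
  have hev : ev gen (pairW q) = tg q.1 * tg q.2 := by rw [pairW, ev_append, tg, tg]
  refine ⟨⟨ev gen (pairW q), by rw [hev]; exact mul_mem (hm hl1 hS1) (hm hl2 hS2)⟩, ?_, rfl⟩
  refine Labels.moves_unique unitS_ok.2.1 (PS.hom_moves okS unitS_ok.2.1 _) fun c hc => ?_
  have e : (act (ev gen (pairW q)) c).val = pathEnd D.T (pairW q) c.val :=
    H93.Fi22ATable.fit.model.act_ev _ (fun g hg => pairW_lt hq g hg) c
  obtain ⟨a, b⟩ := hmv c.val hc
  refine ⟨by rw [e]; exact a, ?_⟩
  simp only [map_one, Equiv.Perm.one_apply]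
  rw [e]
  exact b

theorem pairSub_comm : ∀ a ∈ pairSub, ∀ b ∈ pairSub, a * b = b * a := by
  have hgen : ∀ a ∈ {x | ∃ q ∈ kerGens, ev gen (pairW q) = x},
      ∀ b ∈ {x | ∃ q ∈ kerGens, ev gen (pairW q) = x}, a * b = b * a := by
    rintro _ ⟨q, hq, rfl⟩ _ ⟨r, hr, rfl⟩
    rw [← ev_append, ← ev_append]
    exact ev_eq (List.forall_mem_append.mpr ⟨pairW_lt hr, pairW_lt hq⟩)
      (List.forall_mem_append.mpr ⟨pairW_lt hq, pairW_lt hr⟩) (ker_data.2 r hr q hq)
  intro a ha b hb
  have h := Subgroup.isMulCommutative_closure hgen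
  exact congrArg Subtype.val (h.is_comm.comm (⟨a, ha⟩ : pairSub) ⟨b, hb⟩)

theorem pairSub_sq : ∀ a ∈ pairSub, a * a = 1 := by
  intro a ha
  induction ha using Subgroup.closure_induction with
  | mem x hx =>
    obtain ⟨q, hq, rfl⟩ := hx
    rw [← ev_append]
    exact ev_eq (List.forall_mem_append.mpr ⟨pairW_lt hq, pairW_lt hq⟩) (by simp)
      (ker_data.1 q hq).2.2.2.2.2.2
  | one => exact one_mul 1
  | mul x y hx hy ihx ihy =>
    calc x * y * (x * y) = x * (y * x) * y := by group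
      _ = x * (x * y) * y := by rw [pairSub_comm y hy x hx]
      _ = (x * x) * (y * y) := by group
      _ = 1 := by rw [ihx, ihy, one_mul]
  | inv x _ ih => rw [← _root_.mul_inv_rev, ih, inv_one]

theorem kw_lt (m : List Bool) : ∀ g ∈ kw m, g < 9 := by
  intro g hg
  simp only [kw, List.mem_flatMap, List.mem_filter] at hg
  obtain ⟨⟨q, b⟩, ⟨hq, -⟩, hg⟩ := hg
  exact pairW_lt (List.of_mem_zip hq).1 g hg

theorem kw_mem (m : List Bool) : ev gen (kw m) ∈ pairSub := by
  have key : ∀ L : List ((ℕ × ℕ) × Bool), (∀ q ∈ L, q.1 ∈ kerGens) →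
      ev gen (L.flatMap fun q => tw q.1.2 ++ tw q.1.1) ∈ pairSub := by
    intro L
    induction L with
    | nil => intro _; exact one_mem _
    | cons q L ih =>
      intro hL
      rw [List.flatMap_cons, ev_append]
      exact mul_mem (ih fun r hr => hL r (by simp [hr]))
        (Subgroup.subset_closure ⟨q.1, hL q (by simp), rfl⟩)
  exact key _ fun q hq => (List.of_mem_zip (List.mem_filter.mp hq).1).1

theorem pairSub_eq : pairSub = KerS := by
  haveI := finite_G
  refine Subgroup.eq_of_le_of_card_ge pairSub_le ?_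
  rw [psiS_facts.2]
  let f : Fin masks.length → pairSub := fun i => ⟨ev gen (kw masks[i]), kw_mem _⟩
  have hf : Function.Injective f := by
    intro i j h
    have h1 : ev gen (kw masks[i]) = ev gen (kw masks[j]) := congrArg Subtype.val h
    have key : ∀ (c : ℕ) (hc : c < 3510), pathEnd D.T (kw masks[i]) c = pathEnd D.T (kw masks[j]) c :=
      fun c hc => by
        have a := H93.Fi22ATable.fit.model.act_ev _ (kw_lt masks[i]) (nd c hc)
        have b := H93.Fi22ATable.fit.model.act_ev _ (kw_lt masks[j]) (nd c hc)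
        exact a.symm.trans (Eq.trans (congrArg (fun x => (act x (nd c hc)).val) h1) b)
    have h2 : (masks.map sigK)[i.val]'(by simp) = (masks.map sigK)[j.val]'(by simp) := by
      simp only [List.getElem_map, sigK]
      exact Prod.ext (key 0 (by norm_num)) (key 16 (by norm_num))
    exact Fin.ext ((ker_nodup.getElem_inj_iff).mp h2)
  have h := Nat.card_le_card_of_injective f hf
  rw [Nat.card_fin, ker_len] at h
  exact h

/-- the largest normal 2-subgroup of `O⁻₆(2)` is trivial -/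
theorem orth_core : ∀ P : Subgroup OS, P.Normal → IsPGroup 2 P → P = ⊥ := by
  intro P hP hp
  haveI : Finite OS := Nat.finite_of_card_ne_zero (by rw [H20.AutPSU4.card_orth]; norm_num)
  haveI : Fact (Nat.Prime 2) := ⟨Nat.prime_two⟩
  set O := Cfsg.Omega (ZMod 2) H20.AutPSU4.form with hO
  haveI hn : O.Normal := inferInstanceAs (commutator OS).Normal
  have hz : Subgroup.center O = ⊥ := by
    rw [Subgroup.eq_bot_iff_forall]
    intro c hc
    exact Subtype.ext (H20.AutPSU4.eq_one_of_commute c fun o ho =>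
      congrArg Subtype.val (Subgroup.mem_center_iff.1 hc ⟨o, ho⟩))
  haveI : IsSimpleGroup O := by
    haveI h := H43.isSimpleGroup_POmega_minus (F := ZMod 2) 2 le_rfl 1 1 H20.AutPSU4.form_anisotropic
    exact MulEquiv.isSimpleGroup
      ((QuotientGroup.quotientMulEquivOfEq hz).trans QuotientGroup.quotientBot).symm
  have hcard : Nat.card O = 25920 := by
    have h := Subgroup.card_mul_index O
    rw [H20.AutPSU4.card_orth, H20.AutPSU4.index_omega] at h
    omega
  have hbot : P.subgroupOf O = ⊥ := by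
    refine (IsSimpleGroup.eq_bot_or_eq_top_of_normal _ (hP.comap O.subtype)).resolve_right fun h => ?_
    have hle : O ≤ P := Subgroup.subgroupOf_eq_top.mp h
    obtain ⟨k, hk⟩ := (IsPGroup.iff_card).mp (hp.to_le hle)
    rw [hcard] at hk
    have h5 : 5 ∣ 2 ^ k := hk ▸ (by norm_num)
    exact absurd ((Nat.prime_five).dvd_of_dvd_pow h5) (by norm_num)
  rw [Subgroup.eq_bot_iff_forall]
  intro p hpP
  refine H20.AutPSU4.eq_one_of_commute p fun o ho => ?_
  have h1 : o * p * o⁻¹ * p⁻¹ ∈ P := mul_mem (hP.conj_mem p hpP o) (inv_mem hpP)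
  have h2 : o * p * o⁻¹ * p⁻¹ ∈ O := by
    rw [show o * p * o⁻¹ * p⁻¹ = o * (p * o⁻¹ * p⁻¹) by group]
    exact mul_mem ho (hn.conj_mem _ (inv_mem ho) p)
  have h3 : (⟨_, h2⟩ : O) ∈ P.subgroupOf O := h1
  rw [hbot, Subgroup.mem_bot] at h3
  have h4 := congrArg Subtype.val h3
  simp only [OneMemClass.coe_one] at h4
  rw [mul_inv_eq_one, mul_inv_eq_iff_eq_mul] at h4
  exact h4

/-- the map of the centraliser onto the orthogonal group -/
noncomputable def piS : Cab →* OS :=
  psiS.comp (MulEquiv.subgroupCongr Cab_facts.1.symm).toMonoidHom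

theorem piS_surjective : Function.Surjective piS :=
  psiS_facts.1.comp (MulEquiv.subgroupCongr Cab_facts.1.symm).surjective

theorem piS_ker_map : piS.ker.map Cab.subtype = KerS := by
  ext g
  constructor
  · rintro ⟨x, hx, rfl⟩
    exact ⟨(MulEquiv.subgroupCongr Cab_facts.1.symm) x, hx, rfl⟩
  · rintro ⟨x, hx, rfl⟩
    refine ⟨(MulEquiv.subgroupCongr Cab_facts.1) x, ?_, rfl⟩
    show psiS ((MulEquiv.subgroupCongr Cab_facts.1.symm) ((MulEquiv.subgroupCongr Cab_facts.1) x)) = 1
    exact hx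

theorem core_eq : Cfsg.pCore 2 Cab = piS.ker := by
  haveI := finite_G
  haveI : Fact (Nat.Prime 2) := ⟨Nat.prime_two⟩
  refine le_antisymm ?_ (le_pCore (MonoidHom.normal_ker _) (IsPGroup.of_card (n := 6) ?_))
  · have hn : (Cfsg.pCore 2 Cab).Normal := inferInstance
    have h := orth_core _ (hn.map piS piS_surjective) ((pCore_isPGroup 2).map piS)
    exact (Subgroup.map_eq_bot_iff _).mp h
  · rw [Nat.card_congr (piS.ker.equivMapOfInjective _ Cab.subtype_injective).toEquiv, piS_ker_map,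
      psiS_facts.2]
    norm_num

/-- the third centraliser -/
theorem Cab_structure : ∃ Csab O : Subgroup G,
    (∀ g : G, g ∈ Csab ↔ (beta * MulAut.conj (gen 0 * gen 2)) g = g) ∧
    O = (Cfsg.pCore 2 ↥Csab).map Csab.subtype ∧ Cfsg.IsElementaryAbelian 2 O ∧ Nat.card O = 64 ∧
    ∃ _ : (O.subgroupOf Csab).Normal, Nonempty (↥Csab ⧸ O.subgroupOf Csab ≃*
      Cfsg.isometryGroup (ZMod 2) (Cfsg.quadFormMinus 2 (ZMod 2) 1 1)) := by
  haveI := finite_G
  have hO : (Cfsg.pCore 2 ↥Cab).map Cab.subtype = KerS := by rw [core_eq, piS_ker_map]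
  refine ⟨Cab, _, fun g => by rw [mem_fixedSub, Wd_tau2], rfl, ?_⟩
  have hsub : ((Cfsg.pCore 2 ↥Cab).map Cab.subtype).subgroupOf Cab = piS.ker := by
    rw [Subgroup.subgroupOf, Subgroup.comap_map_eq_self_of_injective Cab.subtype_injective, core_eq]
  refine ⟨?_, by rw [hO, psiS_facts.2], ?_⟩
  · rw [hO, ← pairSub_eq]
    exact ⟨⟨⟨fun a b => Subtype.ext (pairSub_comm _ a.2 _ b.2)⟩⟩, fun a ha => by
      rw [pow_two]; exact pairSub_sq a ha⟩
  · have hn : (((Cfsg.pCore 2 ↥Cab).map Cab.subtype).subgroupOf Cab).Normal := by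
      rw [hsub]; exact MonoidHom.normal_ker _
    exact ⟨hn, ⟨(QuotientGroup.quotientMulEquivOfEq hsub).trans
      (QuotientGroup.quotientKerEquivOfSurjective piS piS_surjective)⟩⟩

end Cent
end Fi22Aut
end H46
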