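import Mathlib
import Cfsg.Agent.H43.Simple
import Cfsg.Agent.H43.D4.Count
import Cfsg.Agent.H43.Omega
import Cfsg.Agent.H38.POmegaStd
import Cfsg.Agent.H46.Fi22Aut.CentForms

/-!
The centraliser of the first outer involution of `Fi22` is `Aut(Ω⁺₈(2))`.
-/

set_option autoImplicit false
set_option maxRecDepth 100000

namespace H46
namespace Fi22Aut
namespace Cent

open H93 H93.Coset H96 H96.Fi22Out Matrix
open Fi22O7 (G gen D A act sq1 mem_A_of_fix commute_zero finite_G)

/-- the vectors in dimension eight -/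
abbrev VB : Type := Fin 4 ⊕ Fin 4 → ZMod 2

/-- the form -/
abbrev QB : VB → ZMod 2 := Cfsg.quadFormPlus 4 (ZMod 2)

/-- the isometry group -/
abbrev OB : Type := ↥(Cfsg.isometryGroup (ZMod 2) QB)

/-- the vector of a node of the first block -/
def fB (c : ℕ) : VB := fun i =>
  bitV (vecB.getD (blockB.idxOf c) 0) (Sum.elim (fun a => a.val) (fun a => 4 + a.val) i)

/-- the polar functional -/
def polW (v : VB) : VB := fun i => v i.swap

theorem unitB_ok : (∀ i : Fin 4 ⊕ Fin 4,
    (unitB.getD (Sum.elim (fun a => a.val) (fun a => 4 + a.val) i) (0, 0)).1 ∈ blockB ∧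
    (unitB.getD (Sum.elim (fun a => a.val) (fun a => 4 + a.val) i) (0, 0)).2 ∈ blockB ∧
    fB (unitB.getD (Sum.elim (fun a => a.val) (fun a => 4 + a.val) i) (0, 0)).1 +
      fB (unitB.getD (Sum.elim (fun a => a.val) (fun a => 4 + a.val) i) (0, 0)).2 = Pi.single i 1) ∧
    (∀ c ∈ blockB, c < 3510) ∧ (blockB.map (fun c => vecB.getD (blockB.idxOf c) 0)).Nodup ∧
    (∀ c ∈ blockB, vecB.getD (blockB.idxOf c) 0 < 256) := by
  decide +kernel

/-- the labels of the first block -/
noncomputable def PB : Labels VB OB :=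
  isoLabels QB polW blockB fB fun i => ⟨_, (unitB_ok.1 i).1, _, (unitB_ok.1 i).2.1, (unitB_ok.1 i).2.2⟩

theorem reflB_ok : ∀ c ∈ genB, polW (fB c) ⬝ᵥ fB c = 0 ∧
    ∀ x, QB (transFun polW (fB c) x) = QB x := by
  decide +kernel

theorem okB : okBy blockB fB (fun c x => transFun polW (fB c) x) genB = true := by decide +kernel

/-- the map to the orthogonal group -/
noncomputable def psiB : genOf genB →* OB := PB.hom (isoLabels_ok reflB_ok okB) unitB_ok.2.1

theorem fB_inj : ∀ c ∈ blockB, ∀ d ∈ blockB, fB c = fB d → c = d := by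
  intro c hc d hd e
  refine List.inj_on_of_nodup_map unitB_ok.2.2.1 hc hd (Nat.eq_of_testBit_eq fun i => ?_)
  have hlt := unitB_ok.2.2.2
  rcases Nat.lt_or_ge i 8 with hi | hi
  · have key : ∀ j : Fin 4 ⊕ Fin 4,
        Nat.testBit (vecB.getD (blockB.idxOf c) 0) (Sum.elim (fun a => a.val) (fun a => 4 + a.val) j) =
        Nat.testBit (vecB.getD (blockB.idxOf d) 0) (Sum.elim (fun a => a.val) (fun a => 4 + a.val) j) := by
      intro j
      have h := congrFun e j
      simp only [fB, bitV] at h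
      revert h
      cases Nat.testBit (vecB.getD (blockB.idxOf c) 0) _ <;>
        cases Nat.testBit (vecB.getD (blockB.idxOf d) 0) _ <;> simp
    rcases Nat.lt_or_ge i 4 with h4 | h4
    · exact key (.inl ⟨i, h4⟩)
    · have := key (.inr ⟨i - 4, by omega⟩)
      simpa [show 4 + (i - 4) = i by omega] using this
  · rw [Nat.testBit_lt_two_pow, Nat.testBit_lt_two_pow] <;>
      exact lt_of_lt_of_le (hlt _ (by assumption)) (Nat.pow_le_pow_right (by norm_num) hi : 2 ^ 8 ≤ 2 ^ i)

theorem base_in_block : (∀ c ∈ baseL, c ∈ blockB) ∧ 0 ∈ genB ∧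
    (∃ d ∈ blockB, fB (pathEnd D.T (tw 0) d) ≠ fB d) := by
  decide +kernel

theorem psiB_injective : Function.Injective psiB := by
  rw [← MonoidHom.ker_eq_bot_iff, Subgroup.eq_bot_iff_forall]
  intro g hg
  have hmv := PB.hom_moves (isoLabels_ok reflB_ok okB) unitB_ok.2.1 g
  rw [show PB.hom (isoLabels_ok reflB_ok okB) unitB_ok.2.1 g = 1 from hg] at hmv
  have hfix : ∀ c : Fin D.n, c.val ∈ blockB → act g.1 c = c := fun c hc => by
    obtain ⟨h1, h2⟩ := hmv c hc
    simp only [map_one, Equiv.Perm.one_apply] at h2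
    exact Fin.ext (fB_inj _ h1 _ hc h2)
  rcases eq_of_fix_base (fun c hc => hfix c (base_in_block.1 _ hc)) with h | h
  · exact Subtype.ext h
  · exfalso
    obtain ⟨d, hd, hne⟩ := base_in_block.2.2
    refine PB.hom_ne_one (isoLabels_ok reflB_ok okB) unitB_ok.2.1 base_in_block.2.1 hd hne ?_
    have e : g = ⟨tg 0, tg_mem_genOf base_in_block.2.1⟩ := Subtype.ext (h.trans tg_zero.symm)
    rw [← e]
    exact hg

theorem card_OB : Nat.card OB = 348364800 := by
  show Nat.card ↥(Cfsg.isometryGroup (ZMod 2) (Cfsg.quadFormPlus (3 + 1) (ZMod 2))) = _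
  rw [H38.card_plus 3, ZMod.card]
  norm_num [Finset.prod_range_succ]

theorem card_genB : Nat.card (genOf genB) = 348364800 ∧ Function.Bijective psiB := by
  haveI := finite_G
  obtain ⟨-, ⟨-, hg, -⟩, ⟨-, hgp, -⟩, -, hfst⟩ := chk
  have h2 := card_ge_down (H := genOf genB) (fun c hc => tg_mem_genOf hc) _ [] hg
  rw [fixIn_nil, hgp] at h2
  have h3 : 2 ≤ Nat.card (fixIn (genOf genB) ((((0, topB) :: lowList).map Prod.fst).reverse ++ [])) :=
    card_base_ge (tg_zero ▸ tg_mem_genOf base_in_block.2.1) (by rw [List.map_cons, hfst]; decide +kernel)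
  have h4 : 348364800 ≤ Nat.card (genOf genB) :=
    le_trans (le_trans (by norm_num) (Nat.mul_le_mul_left 174182400 h3)) h2
  have h5 := Nat.card_le_card_of_injective psiB psiB_injective
  rw [card_OB] at h5
  refine ⟨by omega, (Nat.bijective_iff_injective_and_card psiB).mpr ⟨psiB_injective, ?_⟩⟩
  rw [card_OB]
  omega

/-- the block of a node -/
def blkF (c : ℕ) : Fin 3 :=
  bif (blkL.getD 0 []).contains c then 1 else bif (blkL.getD 1 []).contains c then 2 else 0

/-- the permutation of the blocks by a transposition -/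
def blkM (c : ℕ) : Equiv.Perm (Fin 3) := Equiv.swap (blkF c + 1) (blkF c + 2)

theorem blk_faith : ∀ i : Fin 3, ∃ d ∈ [0, (blkL.getD 0 []).head!, (blkL.getD 1 []).head!],
    d ∈ fixF ∧ blkF d = i := by
  decide +kernel

/-- the labels by blocks -/
noncomputable def PK : Labels (Fin 3) (Equiv.Perm (Fin 3)) where
  S := fixF
  f := blkF
  ι := MonoidHom.id _
  m := blkM
  faith u v h := Equiv.ext fun i => by
    obtain ⟨d, -, hd, rfl⟩ := blk_faith i
    exact h d hd

theorem fixF_lt : ∀ c ∈ fixF, c < 3510 := by decide +kernel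

theorem okK : PK.ok genF = true :=
  PK.ok_of (rf := fun c x => blkM c x) (by decide +kernel) fun _ _ _ => rfl

/-- the action on the blocks -/
noncomputable def blkHom : genOf genF →* Equiv.Perm (Fin 3) := PK.hom okK fixF_lt

theorem blk_data : 0 ∈ genF ∧ 3203 ∈ genF ∧
    (∀ p : Equiv.Perm (Fin 3), p ∈ [1, blkM 0, blkM 3203, blkM 0 * blkM 3203, blkM 3203 * blkM 0,
      blkM 0 * blkM 3203 * blkM 0]) ∧
    (∀ σ : Equiv.Perm (Fin 3), σ ≠ 1 → ∃ τ : Equiv.Perm (Fin 3), (τ * σ * τ⁻¹) 0 ≠ 0) ∧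
    (∀ c ∈ genB, c ∈ fixF ∧ blkF c = 0) ∧ blkF 0 = 0 ∧ 0 ∈ fixF ∧
    (∀ e ∈ fixF, blkF e ≠ 0 → pathEnd D.T (tw 6 ++ tw 10) e ≠ e) ∧
    pathEnd D.T (tw 6 ++ tw 10) 0 = 0 ∧ listed 6 = true ∧ listed 10 = true ∧ 6 ∈ fixF ∧ 10 ∈ fixF ∧
    (∀ d ∈ fixF, blkF (pathEnd D.T (tw 6 ++ tw 10) d) = blkF d) := by
  decide +kernel

theorem blkHom_surjective : Function.Surjective blkHom := by
  obtain ⟨h0, h1, hall, -⟩ := blk_data
  have a := PK.hom_tg okK fixF_lt h0
  have b := PK.hom_tg okK fixF_lt h1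
  intro p
  have hp := hall p
  simp only [List.mem_cons, List.not_mem_nil, or_false] at hp
  rcases hp with rfl | rfl | rfl | rfl | rfl | rfl
  · exact ⟨1, map_one _⟩
  · exact ⟨_, a⟩
  · exact ⟨_, b⟩
  · exact ⟨_, (map_mul blkHom _ _).trans (congrArg₂ (· * ·) a b)⟩
  · exact ⟨_, (map_mul blkHom _ _).trans (congrArg₂ (· * ·) b a)⟩
  · exact ⟨_, (map_mul blkHom _ _).trans (congrArg₂ (· * ·)
      ((map_mul blkHom _ _).trans (congrArg₂ (· * ·) a b)) a)⟩

theorem genB_le : genOf genB ≤ genOf genF := by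
  rw [Cs_facts.1, genOf, Subgroup.closure_le]
  rintro _ ⟨c, hc, rfl⟩
  obtain ⟨hl, hF, -⟩ := gens_listed.2.1 c hc
  rw [Cs, ← Wd_beta]
  exact tg_mem_fixed fix_lists.1 hl hF

theorem blkHom_genB (g : genOf genF) (hg : g.1 ∈ genOf genB) : blkHom g 0 = 0 := by
  obtain ⟨x, hx⟩ := g
  change x ∈ genOf genB at hg
  revert hx
  suffices h : ∀ x ∈ genOf genB, ∀ hx, blkHom ⟨x, hx⟩ 0 = 0 from h x hg
  intro x hx'
  induction hx' using Subgroup.closure_induction with
  | mem y hy =>
    obtain ⟨c, hc, rfl⟩ := hy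
    intro hx
    obtain ⟨-, -, -, -, hcF, -⟩ := blk_data
    obtain ⟨hcF, hb⟩ := hcF c hc
    have hl := (gens_listed.2.1 c hc).1
    obtain ⟨-, -, -, -, -, h00, h0F, -⟩ := blk_data
    have hself : pathEnd D.T (tw c) c = c := by
      have := (cmb_iff hl (nd c (pw_spec hl).1)).mpr (Commute.refl _)
      simpa [cmb, nd] using this
    have h1 := (PK.hom_moves okK fixF_lt ⟨tg c, hx⟩ (nd c (pw_spec hl).1) hcF).2
    rw [act_tg hl] at h1
    simp only [nd, hself] at h1
    change blkF c = blkHom ⟨tg c, hx⟩ (blkF c) at h1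
    rw [hb] at h1
    exact h1.symm
  | one => intro hx; exact congrArg (fun p : Equiv.Perm (Fin 3) => p 0) (map_one blkHom)
  | mul a b ha hb iha ihb =>
    intro hx
    have e : (⟨a * b, hx⟩ : genOf genF) = ⟨a, genB_le ha⟩ * ⟨b, genB_le hb⟩ := rfl
    rw [e, map_mul, Equiv.Perm.mul_apply, ihb, iha]
  | inv a ha iha =>
    intro hx
    have e : (⟨a⁻¹, hx⟩ : genOf genF) = (⟨a, genB_le ha⟩)⁻¹ := rfl
    rw [e, map_inv, Equiv.Perm.inv_eq_iff_eq, iha]

theorem card_kerK : Nat.card blkHom.ker = 174182400 := by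
  haveI := finite_G
  have h := Subgroup.card_mul_index blkHom.ker
  rw [Subgroup.index_ker, MonoidHom.range_eq_top.mpr blkHom_surjective, Subgroup.card_top,
    Nat.card_perm, Nat.card_fin,
    (congrArg (fun S : Subgroup G => Nat.card S) Cs_facts.1).trans Cs_facts.2] at h
  rw [show Nat.factorial 3 = 6 from rfl] at h
  omega

theorem kerK_le : ∀ g ∈ blkHom.ker, g.1 ∈ genOf genB := by
  haveI := finite_G
  set H := (genOf genB).subgroupOf (genOf genF) with hH
  have hcard : Nat.card H = 348364800 := by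
    rw [Nat.card_congr (Subgroup.subgroupOfEquivOfLe genB_le).toEquiv, card_genB.1]
  have hk := card_kerK
  let φ := blkHom.comp H.subtype
  have h1 := Subgroup.card_mul_index φ.ker
  rw [Subgroup.index_ker, hcard] at h1
  have h2 : Nat.card φ.range ≤ 2 := by
    classical
    have hsub : (φ.range : Set (Equiv.Perm (Fin 3))) ⊆
        (((Finset.univ.filter fun p : Equiv.Perm (Fin 3) => p 0 = 0)) : Set _) := by
      rintro _ ⟨y, rfl⟩
      refine Finset.mem_coe.mpr (Finset.mem_filter.mpr ⟨Finset.mem_univ _, ?_⟩)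
      exact blkHom_genB y.1 y.2
    have := Set.ncard_le_ncard hsub (Finset.finite_toSet _)
    rw [Set.ncard_coe_finset, ← Nat.card_coe_set_eq] at this
    exact this.trans (le_of_eq (by decide +kernel))
  have h3 : 174182400 ≤ Nat.card φ.ker := by
    have := Nat.mul_le_mul_left (Nat.card φ.ker) h2
    omega
  have hle : φ.ker.map H.subtype ≤ blkHom.ker := by rintro _ ⟨y, hy, rfl⟩; exact hy
  have heq := Subgroup.eq_of_le_of_card_ge hle (by
    rw [hk, ← Nat.card_congr (φ.ker.equivMapOfInjective _ H.subtype_injective).toEquiv]; exact h3)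
  intro g hg
  rw [← heq] at hg
  obtain ⟨y, -, rfl⟩ := hg
  exact y.2

/-- the kernel of the action on the blocks in the orthogonal group -/
noncomputable def theta : blkHom.ker →* OB :=
  psiB.comp (MonoidHom.mk' (fun g => ⟨g.1.1, kerK_le g.1 g.2⟩) fun _ _ => rfl)

theorem theta_facts : Function.Injective theta ∧ theta.range = Cfsg.Omega (ZMod 2) QB := by
  haveI := finite_G
  have hinj : Function.Injective theta := by
    intro a b h
    have := psiB_injective h
    simp only [MonoidHom.mk'_apply, Subtype.mk.injEq] at this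
    exact Subtype.ext (Subtype.ext this)
  refine ⟨hinj, ?_⟩
  haveI : Finite OB := Nat.finite_of_card_ne_zero (by rw [card_OB]; norm_num)
  have hr : Nat.card theta.range = 174182400 := by
    rw [← Nat.card_congr (theta.ofInjective hinj).toEquiv]
    exact card_kerK
  have hi : theta.range.index = 2 := by
    have h2 := Subgroup.card_mul_index theta.range
    rw [hr, card_OB] at h2
    omega
  haveI : theta.range.Normal := Subgroup.normal_of_index_eq_two hi
  have hle : Cfsg.Omega (ZMod 2) QB ≤ theta.range := by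
    haveI : IsMulCommutative (OB ⧸ theta.range) :=
      haveI : IsCyclic (OB ⧸ theta.range) :=
        isCyclic_of_prime_card (p := 2) (by rw [← Subgroup.index]; exact hi)
      inferInstance
    exact Subgroup.Normal.quotient_commutative_iff_commutator_le.mp inferInstance
  refine (Subgroup.eq_of_le_of_card_ge hle ?_).symm
  have hidx : (Cfsg.Omega (ZMod 2) QB).index = 2 := by
    show (Cfsg.Omega (ZMod 2) (Cfsg.quadFormPlus 4 (ZMod 2))).index = 2
    rw [← H43.coe_qPlus, H43.omega_index]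
    exact H43.commutator_index_even (H43.qPlus_nondeg 4)
      (H43.reflGenerates_of_card (Or.inr (by simp))) (by simp) (CharTwo.two_eq_zero)
  have h4 := Subgroup.card_mul_index (Cfsg.Omega (ZMod 2) QB)
  rw [hidx, card_OB] at h4
  change Nat.card theta.range ≤ Nat.card (Cfsg.Omega (ZMod 2) QB)
  rw [hr]
  omega

theorem omega_center : Subgroup.center (Cfsg.Omega (ZMod 2) QB) = ⊥ := by
  show Subgroup.center (Cfsg.Omega (ZMod 2) (Cfsg.quadFormPlus 4 (ZMod 2))) = ⊥
  rw [← H43.coe_qPlus, Subgroup.eq_bot_iff_forall]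
  intro g hg
  have h := (H43.omega_center_iff (H43.qPlus_nondeg 4) (by simp) g).mp hg
  refine Subtype.ext (Subtype.ext (Units.ext ?_))
  rcases h with h | h
  · exact h
  · rw [h]
    ext i j
    rw [Matrix.neg_apply, CharTwo.neg_eq]
    rfl

/-- the kernel as `Ω` -/
noncomputable def kerEquiv : blkHom.ker ≃* Cfsg.Omega (ZMod 2) QB :=
  (theta.ofInjective theta_facts.1).trans (MulEquiv.subgroupCongr theta_facts.2)

theorem conj_ker_injective :
    Function.Injective (MulAut.conjNormal : genOf genF →* MulAut blkHom.ker) := by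
  rw [← MonoidHom.ker_eq_bot_iff, Subgroup.eq_bot_iff_forall]
  have hcom : ∀ k ∈ (MulAut.conjNormal : genOf genF →* MulAut blkHom.ker).ker,
      ∀ x : blkHom.ker, k * x.1 = x.1 * k := by
    intro k hk x
    have h : MulAut.conjNormal k x = x := by rw [MonoidHom.mem_ker.mp hk]; rfl
    have h1 := congrArg Subtype.val h
    rw [MulAut.conjNormal_apply, mul_inv_eq_iff_eq_mul] at h1
    exact h1
  intro k hk
  by_cases hb : blkHom k = 1
  · have hz : (⟨k, hb⟩ : blkHom.ker) ∈ Subgroup.center blkHom.ker :=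
      Subgroup.mem_center_iff.mpr fun x => Subtype.ext (hcom k hk x).symm
    have hz' : kerEquiv ⟨k, hb⟩ ∈ Subgroup.center (Cfsg.Omega (ZMod 2) QB) :=
      Subgroup.mem_center_iff.mpr fun y => by
        obtain ⟨x, rfl⟩ := kerEquiv.surjective y
        rw [← map_mul, ← map_mul, Subgroup.mem_center_iff.mp hz x]
    rw [omega_center, Subgroup.mem_bot, ← map_one kerEquiv] at hz'
    exact congrArg Subtype.val (kerEquiv.injective hz')
  · exfalso
    obtain ⟨-, -, -, hmove, -, h00, h0F, hnf, hf, hl6, hl10, h6F, h10F, hpar⟩ := blk_data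
    obtain ⟨τ, hτ⟩ := hmove _ hb
    obtain ⟨g, hg⟩ := blkHom_surjective τ
    set k' := g * k * g⁻¹ with hk'
    have hk'm : k' ∈ (MulAut.conjNormal : genOf genF →* MulAut blkHom.ker).ker :=
      (MonoidHom.normal_ker _).conj_mem k hk g
    have hm6 : tg 6 ∈ genOf genF := by
      rw [Cs_facts.1, Cs, ← Wd_beta]; exact tg_mem_fixed fix_lists.1 hl6 h6F
    have hm10 : tg 10 ∈ genOf genF := by
      rw [Cs_facts.1, Cs, ← Wd_beta]; exact tg_mem_fixed fix_lists.1 hl10 h10F
    set x : genOf genF := ⟨tg 10, hm10⟩ * ⟨tg 6, hm6⟩ with hx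
    have hact : ∀ c : Fin D.n, (act x.1 c).val = pathEnd D.T (tw 6 ++ tw 10) c.val := fun c => by
      rw [hx, Subgroup.coe_mul, map_mul, Equiv.Perm.mul_apply, act_tg hl10, act_tg hl6,
        Coset.pathEnd_append]
    have hxk : blkHom x = 1 := PK.faith _ _ fun d hd => by
      have h1 := (PK.hom_moves okK fixF_lt x (nd d (fixF_lt d hd)) hd).2
      rw [hact] at h1
      simp only [map_one, Equiv.Perm.one_apply]
      exact h1.symm.trans (hpar d hd)
    have hcomm := hcom k' hk'm ⟨x, hxk⟩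
    set z : Fin D.n := nd 0 (by norm_num) with hz
    have hfix : act x.1 z = z := Fin.ext (by rw [hact]; exact hf)
    have h1 := PK.hom_moves okK fixF_lt k' z h0F
    have h2 : blkF (act k'.1 z).val ≠ 0 := by
      rw [show blkF (act k'.1 z).val = blkHom k' (blkF 0) from h1.2, h00, hk', map_mul, map_mul,
        map_inv, hg]
      exact hτ
    refine hnf _ h1.1 h2 ?_
    rw [← hact]
    refine congrArg Fin.val ?_
    have h3 := congrArg (fun y : genOf genF => act y.1 z) hcomm
    simp only [Subgroup.coe_mul, map_mul, Equiv.Perm.mul_apply, hfix] at h3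
    exact h3.symm

/-- the centraliser is the automorphism group of `Ω⁺₈(2)` -/
theorem Cs_iso : Nonempty (Cs ≃* MulAut (Cfsg.Omega (ZMod 2) (Cfsg.quadFormPlus 4 (ZMod 2)))) := by
  haveI := finite_G
  haveI : Fact (Nat.Prime 2) := ⟨Nat.prime_two⟩
  let eP : Cfsg.POmega (ZMod 2) QB ≃* Cfsg.Omega (ZMod 2) QB :=
    (QuotientGroup.quotientMulEquivOfEq omega_center).trans QuotientGroup.quotientBot
  have hO : Nat.card (Cfsg.Omega (ZMod 2) QB) = 174182400 := by
    rw [← Nat.card_congr kerEquiv.toEquiv]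
    exact card_kerK
  have hA : Nat.card (MulAut (Cfsg.Omega (ZMod 2) QB)) = 1045094400 := by
    rw [← Nat.card_congr (MulAut.congr eP).toEquiv]
    rw [H43.AutPO.card_mulaut_plus (p := 2) (f := 1) le_rfl (by simp) le_rfl, Nat.card_congr eP.toEquiv, hO]
    norm_num
  let Φ : genOf genF →* MulAut (Cfsg.Omega (ZMod 2) QB) :=
    (MulAut.congr kerEquiv).toMonoidHom.comp MulAut.conjNormal
  have hinj : Function.Injective Φ := (MulAut.congr kerEquiv).injective.comp conj_ker_injective
  haveI : Finite (MulAut (Cfsg.Omega (ZMod 2) QB)) :=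
    Nat.finite_of_card_ne_zero (by rw [hA]; norm_num)
  exact ⟨(MulEquiv.subgroupCongr Cs_facts.1.symm).trans (MulEquiv.ofBijective Φ
    ((Nat.bijective_iff_injective_and_card Φ).mpr ⟨hinj, by rw [hA]; exact (congrArg (fun S : Subgroup G => Nat.card S) Cs_facts.1).trans Cs_facts.2⟩))⟩

end Cent
end Fi22Aut
end H46
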