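import Mathlib
import Cfsg.Agent.H48.Count
import Cfsg.Agent.H49.SpBlock
import Cfsg.Agent.H46.Fi22Aut.CentOrth

/-!
The centraliser of the second outer involution of `Fi22` is `2 × Sp₆(2)`.
-/

set_option autoImplicit false
set_option maxRecDepth 100000

namespace H46
namespace Fi22Aut
namespace Cent

open H93 H93.Coset H96 H96.Fi22Out Matrix
open Fi22O7 (G gen D A act sq1 mem_A_of_fix commute_zero finite_G)

/-- the vectors in dimension six -/
abbrev VA : Type := Fin 3 ⊕ Fin 3 → ZMod 2

/-- the symplectic group -/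
abbrev SpA : Type := ↥(Matrix.symplecticGroup (Fin 3) (ZMod 2))

/-- the code position of a coordinate -/
def posA (i : Fin 3 ⊕ Fin 3) : ℕ := Sum.elim (fun a => a.val) (fun a => 3 + a.val) i

/-- the vector of a neighbour of the first node -/
def fA (c : ℕ) : VA := fun i => bitV (vecA.getD (nbrA.idxOf c) 0) (posA i)

/-- the symplectic functional -/
def symW (v : VA) : VA := fun i => v i.swap

theorem symA_ok : (∀ c ∈ genA, transMat symW (fA c) * Matrix.J (Fin 3) (ZMod 2) *
      (transMat symW (fA c))ᵀ = Matrix.J (Fin 3) (ZMod 2)) ∧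
    (∀ i, ∃ d ∈ nbrA, fA d = Pi.single i 1) ∧ (∀ c ∈ nbrA, c < 3510) ∧
    (nbrA.map fun c => vecA.getD (nbrA.idxOf c) 0).Nodup ∧
    (∀ c ∈ nbrA, vecA.getD (nbrA.idxOf c) 0 < 64) ∧
    (∀ c ∈ baseL, c = 0 ∨ c ∈ nbrA) ∧ 0 ∈ genA := by
  decide +kernel

/-- the transvection of a node -/
noncomputable def transA (c : ℕ) : SpA :=
  if h : c ∈ genA then ⟨transMat symW (fA c), SymplecticGroup.mem_iff.mpr (symA_ok.1 c h)⟩ else 1

/-- the labels by symplectic vectors -/
noncomputable def PA : Labels VA SpA where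
  S := nbrA
  f := fA
  ι := MulAction.toPermHom SpA VA
  m := transA
  faith u v h := by
    refine Subtype.ext (Matrix.ext_of_mulVec_single fun i => ?_)
    obtain ⟨d, hd, e⟩ := symA_ok.2.1 i
    rw [← e]
    exact h d hd

theorem okA : PA.ok genA = true :=
  PA.ok_of (rf := fun c x => transFun symW (fA c) x) (by decide +kernel) fun c hc x => by
    show transA c • x = _
    rw [transA, dif_pos hc]
    exact transMat_mulVec symW (fA c) x

/-- the map to the symplectic group -/
noncomputable def psiA : genOf genA →* SpA := PA.hom okA symA_ok.2.2.1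

theorem fA_inj : ∀ c ∈ nbrA, ∀ d ∈ nbrA, fA c = fA d → c = d := by
  intro c hc d hd e
  refine List.inj_on_of_nodup_map symA_ok.2.2.2.1 hc hd (Nat.eq_of_testBit_eq fun i => ?_)
  have hlt := symA_ok.2.2.2.2.1
  rcases Nat.lt_or_ge i 6 with hi | hi
  · have key : ∀ j, Nat.testBit (vecA.getD (nbrA.idxOf c) 0) (posA j) =
        Nat.testBit (vecA.getD (nbrA.idxOf d) 0) (posA j) := by
      intro j
      have h := congrFun e j
      simp only [fA, bitV] at h
      revert h
      cases Nat.testBit (vecA.getD (nbrA.idxOf c) 0) _ <;>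
        cases Nat.testBit (vecA.getD (nbrA.idxOf d) 0) _ <;> simp
    rcases Nat.lt_or_ge i 3 with h4 | h4
    · exact key (.inl ⟨i, h4⟩)
    · have := key (.inr ⟨i - 3, by omega⟩)
      simpa [posA, show 3 + (i - 3) = i by omega] using this
  · rw [Nat.testBit_lt_two_pow, Nat.testBit_lt_two_pow] <;>
      exact lt_of_lt_of_le (hlt _ (by assumption)) (Nat.pow_le_pow_right (by norm_num) hi : 2 ^ 6 ≤ 2 ^ i)

theorem psiA_ker {g : genOf genA} (h : psiA g = 1) : g.1 = 1 ∨ g.1 = gen 0 := by
  have hmv := PA.hom_moves okA symA_ok.2.2.1 g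
  rw [show PA.hom okA symA_ok.2.2.1 g = 1 from h] at hmv
  refine eq_of_fix_base fun c hc => ?_
  have hg : g.1 ∈ fixIn Cs [0] := Csa_facts.1 ▸ g.2
  rcases symA_ok.2.2.2.2.2.1 c.val hc with e | e
  · exact hg.2 c (List.mem_singleton.mpr e)
  · obtain ⟨h1, h2⟩ := hmv c e
    simp only [map_one, Equiv.Perm.one_apply] at h2
    exact Fin.ext (fA_inj _ h1 _ e h2)

theorem genA_le_genF : genOf genA ≤ genOf genF := by
  rw [Csa_facts.1, Cs_facts.1]
  exact inf_le_left

/-- the parity of a permutation of the blocks -/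
def parity : Equiv.Perm (Fin 3) →* Multiplicative (ZMod 2) where
  toFun p := Multiplicative.ofAdd (if Equiv.Perm.sign p = 1 then 0 else 1)
  map_one' := by decide +kernel
  map_mul' := by decide +kernel

/-- the map to the factor of order 2 -/
noncomputable def chiA : genOf genA →* Multiplicative (ZMod 2) :=
  parity.comp (blkHom.comp (Subgroup.inclusion genA_le_genF))

theorem chiA_gen0 (h : gen 0 ∈ genOf genA) : chiA ⟨gen 0, h⟩ ≠ 1 := by
  have h1 := PK.hom_tg okK fixF_lt blk_data.1
  have e : Subgroup.inclusion genA_le_genF ⟨gen 0, h⟩ = ⟨tg 0, tg_mem_genOf blk_data.1⟩ :=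
    Subtype.ext tg_zero.symm
  show parity (blkHom (Subgroup.inclusion genA_le_genF ⟨gen 0, h⟩)) ≠ 1
  rw [e, show blkHom ⟨tg 0, tg_mem_genOf blk_data.1⟩ = blkM 0 from h1]
  decide +kernel

theorem Csa_iso : Nonempty (↥(Cs ⊓ Subgroup.centralizer ({gen 0} : Set G)) ≃*
    Multiplicative (ZMod 2) × Cfsg.PSp 3 (ZMod 2)) := by
  haveI := finite_G
  have hc : Subgroup.center SpA = ⊥ := by
    rw [Subgroup.eq_bot_iff_forall]
    intro g hg
    rcases H49.eq_one_or_negOne_of_mem_center hg with h | h
    · exact h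
    · rw [h]
      refine Subtype.ext ?_
      show -(1 : Matrix (Fin 3 ⊕ Fin 3) (Fin 3 ⊕ Fin 3) (ZMod 2)) = 1
      ext i j
      rw [Matrix.neg_apply, CharTwo.neg_eq]
  let eS : SpA ≃* Cfsg.PSp 3 (ZMod 2) :=
    ((QuotientGroup.quotientMulEquivOfEq hc).trans QuotientGroup.quotientBot).symm
  haveI : Finite SpA := Finite.of_injective _ Subtype.val_injective
  have hS : Nat.card SpA = 1451520 := by
    rw [show Nat.card SpA = _ from H48.card_sp, Fintype.card_fin, ZMod.card]
    norm_num [Finset.prod_range_succ]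
  let Φ := chiA.prod psiA
  have hinj : Function.Injective Φ := by
    rw [← MonoidHom.ker_eq_bot_iff, Subgroup.eq_bot_iff_forall]
    intro g hg
    have h1 : chiA g = 1 := congrArg Prod.fst hg
    have h2 : psiA g = 1 := congrArg Prod.snd hg
    rcases psiA_ker h2 with e | e
    · exact Subtype.ext e
    · exfalso
      obtain ⟨x, hx⟩ := g
      subst e
      exact chiA_gen0 hx h1
  have hcard : Nat.card (genOf genA) = Nat.card (Multiplicative (ZMod 2) × SpA) := by
    rw [Nat.card_prod, hS, show Nat.card (Multiplicative (ZMod 2)) = 2 from Nat.card_zmod 2,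
      (congrArg (fun S : Subgroup G => Nat.card S) Csa_facts.1).trans Csa_facts.2]
  exact ⟨(MulEquiv.subgroupCongr (inf_eq_fixIn.trans Csa_facts.1.symm)).trans
    ((MulEquiv.ofBijective Φ ((Nat.bijective_iff_injective_and_card Φ).mpr ⟨hinj, hcard⟩)).trans
      (MulEquiv.prodCongr (MulEquiv.refl _) eS))⟩

end Cent
end Fi22Aut
end H46
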